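import Cfsg.Agent.Lib.Recog.FiTwoMult.Bound

/-!
Two heptads in a double cover of Fi22: for either lift of a transposition there are seven commuting conjugates with
product one (owner: helper6).
-/

set_option autoImplicit false
set_option maxRecDepth 20000
set_option Elab.async false

namespace CfsgLib.Recog.FiTwoMult

open Cfsg CfsgLib.ThreeTrans.CosetIndex
open CfsgLib.Recog.FiThree.Mult (orth orthComm orthWord palOf coxSeven spider conC conD certC certE palOf_flat
  orth_range)
open CfsgLib.Recog.SporBound (relWord_one gen_inv gen_of)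
open CfsgLib.Recog.SporBound.Fi22Group (a K nodes finite_fi22)
open CfsgLib.Recog.SporBound.Fi22U6 (a_sq)
open Cfsg.Agent.S1687 (gens fits)

local notation "G" => Cfsg.Spor.Fi22

/-- The isomorphism of the two diagrams of type E₇. -/
def flip7 : ℕ → ℕ
  | 0 => 6
  | 1 => 5
  | 2 => 4
  | 4 => 2
  | 5 => 1
  | 6 => 0
  | x => x

/-- The seven orthogonal reflections of either diagram of type E₇. -/
def orthB (b : Bool) (i : ℕ) : List ℕ × ℕ :=
  if b then ((orth.getD i ([], 0)).1.map flip7, flip7 (orth.getD i ([], 0)).2) else orth.getD i ([], 0)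

/-- The product of the seven reflections. -/
def orthWordB (b : Bool) : List ℕ := (List.range 7).flatMap fun i => palOf (orthB b i)

/-- A conjugator between two Coxeter elements. -/
def flipConj : List ℕ := [7, 1, 2, 3, 7, 4, 1, 2, 3, 7, 5, 4, 1, 2, 3, 1, 2, 1]

/-- The moves proving the conjugacy. -/
def certFlip : List (List ℕ) :=
  [[], [], [], [], [], [], [], [], [], [], [], [], [2, 1, 0], [2, 1, 0], [], [3, 2, 1, 0], [], [], [], [], [], [], [],
   [12, 11, 10, 9, 8, 7, 6, 5, 4, 3, 2, 1, 0], [], [], [], [], [], [], [], [], [4, 3, 2, 1, 0], [], [], [], [], [0], [],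
   [], [], [], [], [], [], [], [], [], [], []]

theorem flip_conj_red : (reduceBy (flipConj ++ [1, 2, 3, 4, 5, 6, 7] ++ flipConj.reverse ++ [7, 1, 2, 3, 4, 5, 6])
    certFlip == some []) = true := by decide +kernel

theorem flip_seven : coxSeven.map flip7 = (List.replicate 9 [6, 5, 4, 3, 2, 1, 7]).flatten := by decide +kernel

theorem flip_red : (reduceBy (coxSeven.map flip7 ++ orthWordB true) certE == some []) = true := by decide +kernel

theorem orth_lenB : ∀ b : Bool, ∀ i < 7, (orthB b i).2 < 9 := by decide +kernel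

theorem orth_commB : ∀ b : Bool, ((List.range 7).all fun i => (List.range 7).all fun j => !Nat.blt i j ||
    orthComm.any fun e =>
    Nat.beq e.1 i && Nat.beq e.2.1 j && (reduceBy (palOf (orthB b i) ++ palOf (orthB b j) ++
      palOf (orthB b i) ++ palOf (orthB b j)) e.2.2 == some [])) = true := by decide +kernel

theorem orth_pairB (b : Bool) {i j : ℕ} (hi : i < 7) (hj : j < 7) :
    wd (palOf (orthB b i)) * wd (palOf (orthB b j)) = wd (palOf (orthB b j)) * wd (palOf (orthB b i)) := by
  have key : ∀ i j, i < 7 → j < 7 → i < j →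
      wd (palOf (orthB b i)) * wd (palOf (orthB b j)) = wd (palOf (orthB b j)) * wd (palOf (orthB b i)) := by
    intro i j hi hj hij
    have h := List.all_eq_true.1 (List.all_eq_true.1 (orth_commB b) i (List.mem_range.2 hi)) j (List.mem_range.2 hj)
    rw [show Nat.blt i j = true by rw [Nat.blt_eq]; exact hij, Bool.not_true, Bool.false_or, List.any_eq_true] at h
    obtain ⟨e, -, h⟩ := h
    have e1 := prod_eq_one a_rel (Bool.and_eq_true_iff.1 h).2
    rw [List.map_append, List.map_append, List.map_append, List.prod_append, List.prod_append, List.prod_append] at e1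
    have e2 : ∀ k, (wd (palOf (orthB b k)))⁻¹ = wd (palOf (orthB b k)) := fun k => by
      rw [← wd_reverse]
      congr 1
      simp [palOf]
    have e3 := eq_inv_of_mul_eq_one_left (show wd (palOf (orthB b i)) * wd (palOf (orthB b j)) *
      (wd (palOf (orthB b i)) * wd (palOf (orthB b j))) = 1 by rw [← e1]; simp only [wd]; group)
    rw [mul_inv_rev, e2, e2] at e3
    exact e3
  rcases Nat.lt_trichotomy i j with h | rfl | h
  · exact key i j hi hj h
  · rfl
  · exact (key j i hj hi h).symm

theorem orth_oneB : ∀ b : Bool, wd (orthWordB b) = 1 := by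
  intro b
  cases b
  · have e : orthWordB false = orthWord := by decide +kernel
    rw [e]
    exact orth_one
  · have hq := prod_eq_one a_rel flip_conj_red
    have hs : wd sevenTwo = 1 := extra_one (by simp)
    have hc : wd ([7, 1, 2, 3, 4, 5, 6] : List ℕ) = (wd [6, 5, 4, 3, 2, 1, 7])⁻¹ := wd_reverse [6, 5, 4, 3, 2, 1, 7]
    simp only [List.map_append, List.prod_append] at hq
    change wd flipConj * wd [1, 2, 3, 4, 5, 6, 7] * wd flipConj.reverse * wd [7, 1, 2, 3, 4, 5, 6] = 1 at hq
    rw [wd_reverse, hc, mul_inv_eq_one] at hq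
    have h := prod_eq_one a_rel flip_red
    rw [List.map_append, List.prod_append, flip_seven, List.map_flatten, List.prod_flatten, List.map_map,
      List.map_replicate, List.prod_replicate] at h
    have h9 : (wd [6, 5, 4, 3, 2, 1, 7]) ^ 9 = 1 := by
      rw [← hq, conj_pow]
      have : (wd [1, 2, 3, 4, 5, 6, 7]) ^ 9 = 1 := by
        rw [← hs, sevenTwo]
        simp only [wd, List.map_flatten, List.prod_flatten, List.map_map, List.map_replicate, List.prod_replicate,
          Function.comp_apply]
      rw [this, mul_one, mul_inv_cancel]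
    simp only [Function.comp_apply] at h
    change (wd [6, 5, 4, 3, 2, 1, 7]) ^ 9 * wd (orthWordB true) = 1 at h
    rwa [h9, one_mul] at h

variable {E : Type*} [Group E] (σ : E →* G) (hs : Function.Surjective σ) (hk : σ.ker ≤ Subgroup.center E)

include hs hk in
/-- A double cover in which both products of seven reflections are trivial is split. -/
theorem perfect_not_trivial {δ : E} (hker : ∀ x, σ x = 1 → x = 1 ∨ x = δ) (hδ : δ * δ = 1) (hδ1 : δ ≠ 1)
    (hσδ : σ δ = 1) (hperf : commutator E = ⊤) {B : E} (hB : σ B = a 0) (hBsq : B * B = 1)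
    (hθ : ∀ b : Bool, ∀ c : ℕ → E, (∀ i < 7, σ (c i) = wd (refW (orthB b i))) →
      ((List.range 7).map fun i => c i * B * (c i)⁻¹).prod = 1) : False := by
  classical
  set lf := Function.surjInv hs with hlf
  have hl : ∀ g, σ (lf g) = g := Function.surjInv_eq hs
  set β : ℕ → E := fun x => if x < 9 then lf (wd (chain22 x)) * B * (lf (wd (chain22 x)))⁻¹ else 1 with hβ
  have hβσ : ∀ x, σ (β x) = a x := fun x => by
    rcases Nat.lt_or_ge x 9 with hx | hx
    · simp only [hβ, if_pos hx, map_mul, map_inv, hl, hB, gw_spec hx]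
    · simp only [hβ, if_neg (Nat.not_lt.2 hx), map_one, a_big hx]
  have hrel : CoxRel β := by
    refine ⟨fun x => ?_, fun x y h => ?_, fun x y h => ?_⟩
    · rcases Nat.lt_or_ge x 9 with hx | hx
      · simp only [hβ, if_pos hx]
        calc lf (wd (chain22 x)) * B * (lf (wd (chain22 x)))⁻¹ * (lf (wd (chain22 x)) * B * (lf (wd (chain22 x)))⁻¹)
            = lf (wd (chain22 x)) * (B * B) * (lf (wd (chain22 x)))⁻¹ := by group
          _ = 1 := by rw [hBsq, mul_one, mul_inv_cancel]
      · simp only [hβ, if_neg (Nat.not_lt.2 hx), mul_one]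
    · obtain ⟨hx, hy, -⟩ := adj_small h
      have e := conj_eq σ hs hk hB (e := β x * β y * lf (wd (chain22 x))) (d := lf (wd (chain22 y))) (by
        rw [map_mul, map_mul, hβσ, hβσ, hl, hl, gw_spec hy]
        calc a x * a y * wd (chain22 x) * a 0 * (a x * a y * wd (chain22 x))⁻¹
            = a x * a y * (wd (chain22 x) * a 0 * (wd (chain22 x))⁻¹) * (a x * a y)⁻¹ := by group
          _ = a x * a y * a x * (a x * a y)⁻¹ := by rw [gw_spec hx]
          _ = _ := by rw [mul_assoc (a x), a_rel.braid x y h]; group)
      have e' : β x * β y * β x * (β x * β y)⁻¹ = β y := by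
        calc β x * β y * β x * (β x * β y)⁻¹
            = β x * β y * (lf (wd (chain22 x)) * B * (lf (wd (chain22 x)))⁻¹) * (β x * β y)⁻¹ := by
              rw [← show β x = lf (wd (chain22 x)) * B * (lf (wd (chain22 x)))⁻¹ from if_pos hx]
          _ = β x * β y * lf (wd (chain22 x)) * B * (β x * β y * lf (wd (chain22 x)))⁻¹ := by group
          _ = _ := e.trans (show β y = _ from if_pos hy).symm
      calc β x * (β y * β x) = β x * β y * β x * (β x * β y)⁻¹ * (β x * β y) := by group
        _ = _ := by rw [e']
    · rcases Nat.lt_or_ge x 9 with hx | hx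
      swap
      · simp only [hβ, if_neg (Nat.not_lt.2 hx), one_mul, mul_one]
      rcases Nat.lt_or_ge y 9 with hy | hy
      swap
      · simp only [hβ, if_neg (Nat.not_lt.2 hy), one_mul, mul_one]
      rw [show β y = lf (wd (chain22 y)) * B * (lf (wd (chain22 y)))⁻¹ from if_pos hy]
      exact conj_comm σ hs hk hB (by rw [hβσ, hl, gw_spec hy]; exact a_rel.comm x y h)
  have hβw : ∀ w : List ℕ, σ (w.map β).prod = wd w := fun w => by
    rw [map_list_prod, List.map_map]
    exact congrArg List.prod (List.map_congr_left fun x _ => hβσ x)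
  have hrev : ∀ w : List ℕ, (w.reverse.map β).prod = ((w.map β).prod)⁻¹ := fun w =>
    prod_reverse_eq_inv β hrel.sq w
  have hpal : ∀ e : List ℕ × ℕ, e.2 < 9 → ∀ d : E, σ d = wd (refW e) → ((palOf e).map β).prod = d * B * d⁻¹ := by
    intro e he d hd
    rw [palOf, List.map_append, List.map_append, List.prod_append, List.prod_append, hrev, List.map_singleton,
      List.prod_singleton, show β e.2 = lf (wd (chain22 e.2)) * B * (lf (wd (chain22 e.2)))⁻¹ from if_pos he]
    rw [← conj_eq σ hs hk hB (e := (e.1.map β).prod * lf (wd (chain22 e.2))) (d := d) (by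
      rw [map_mul, hβw, hl, hd]
      simp only [wd, refW, List.map_append, List.prod_append])]
    group
  have horth : ∀ b : Bool, ((orthWordB b).map β).prod = 1 := by
    intro b
    rw [orthWordB, palOf_flat]
    rw [List.map_congr_left (g := fun i => lf (wd (refW (orthB b i))) * B * (lf (wd (refW (orthB b i))))⁻¹)
      fun i hi => hpal _ (orth_lenB b i (List.mem_range.1 hi)) _ (hl _)]
    exact hθ b _ fun i _ => hl _
  have hseven : (coxSeven.map β).prod = 1 := by
    have h := prod_eq_one hrel seven_red
    have e : orthWordB false = orthWord := by decide +kernel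
    rwa [List.map_append, List.prod_append, ← e, horth false, mul_one] at h
  have hcen : ∀ {t : E}, σ t = 1 → ∀ y, y * t = t * y := fun ht y => central' σ hk ht y
  have hv : (sevenTwo.map β).prod = 1 := by
    have hq := prod_eq_one hrel flip_conj_red
    have hc : (([7, 1, 2, 3, 4, 5, 6] : List ℕ).map β).prod = ((([6, 5, 4, 3, 2, 1, 7] : List ℕ)).map β).prod⁻¹ :=
      hrev [6, 5, 4, 3, 2, 1, 7]
    rw [List.map_append, List.map_append, List.map_append, List.prod_append, List.prod_append, List.prod_append, hrev,
      hc, mul_inv_eq_one] at hq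
    have h := prod_eq_one hrel flip_red
    rw [List.map_append, List.prod_append, horth true, mul_one, flip_seven, List.map_flatten, List.prod_flatten,
      List.map_map, List.map_replicate, List.prod_replicate] at h
    simp only [Function.comp_apply] at h
    rw [← hq, conj_pow, mul_inv_eq_one] at h
    have h' := mul_eq_left.1 h
    rw [sevenTwo, List.map_flatten, List.prod_flatten, List.map_map, List.map_replicate, List.prod_replicate]
    exact h'
  have hw : (spider.map β).prod = 1 := by
    set w := (spider.map β).prod with hw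
    have hw1 : σ w = 1 := by rw [hw, hβw, extra_one (by simp)]
    have hwc : ∀ y, y * w * y⁻¹ = w := fun y => by rw [hcen hw1, mul_inv_cancel_right]
    have h := prod_eq_one hrel cube_red
    simp only [List.map_append, List.prod_append, hrev, ← hw, hwc] at h
    rcases hker w hw1 with e | e
    · exact e
    · rw [e, hδ, one_mul] at h
      exact absurd h hδ1
  let s : G →* E := PresentedGroup.toGroup (f := fun y => β (gens.idxOf y)) (by
    rintro r (⟨x, -, y, -, rfl⟩ | hr)
    · rw [map_pow, map_mul, FreeGroup.lift_apply_of, FreeGroup.lift_apply_of, label_check]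
      split_ifs with h1 h2
      · rw [pow_one, h1, hrel.sq]
      · rw [show (3 : ℕ) = 1 + 1 + 1 from rfl, pow_succ, pow_succ, pow_one]
        calc β (gens.idxOf x) * β (gens.idxOf y) * (β (gens.idxOf x) * β (gens.idxOf y)) *
              (β (gens.idxOf x) * β (gens.idxOf y))
            = β (gens.idxOf x) * (β (gens.idxOf y) * β (gens.idxOf x)) *
              (β (gens.idxOf y) * (β (gens.idxOf x) * β (gens.idxOf y))) := by group
          _ = β (gens.idxOf x) * (β (gens.idxOf y) * β (gens.idxOf x)) *
              (β (gens.idxOf x) * (β (gens.idxOf y) * β (gens.idxOf x))) := by rw [← hrel.braid _ _ h2]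
          _ = 1 := by
            simp only [mul_assoc, ← mul_assoc (β (gens.idxOf x)) (β (gens.idxOf x)),
              ← mul_assoc (β (gens.idxOf y)) (β (gens.idxOf y)), hrel.sq, one_mul, mul_one]
      · rw [pow_two, hrel.comm _ _ (Bool.eq_false_iff.2 h2)]
        calc β (gens.idxOf y) * β (gens.idxOf x) * (β (gens.idxOf y) * β (gens.idxOf x))
            = β (gens.idxOf y) * β (gens.idxOf x) * (β (gens.idxOf x) * β (gens.idxOf y)) := by
              rw [hrel.comm _ _ (Bool.eq_false_iff.2 h2)]
          _ = 1 := by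
            simp only [mul_assoc, ← mul_assoc (β (gens.idxOf x)) (β (gens.idxOf x)), hrel.sq, one_mul]
    · rw [hom_eq_prod gens _ β (fun y => FreeGroup.lift_apply_of) hrel.sq]
      have hm : letters gens r ∈ Spor.Fi22.extra.map (letters gens) := List.mem_map.2 ⟨r, hr, rfl⟩
      rw [extra_words] at hm
      simp only [List.mem_cons, List.not_mem_nil, or_false] at hm
      rcases hm with e | e | e <;> rw [e]
      exacts [hw, hseven, hv])
  have hsec : ∀ g, σ (s g) = g := by
    have : σ.comp s = MonoidHom.id G := PresentedGroup.ext fun y => by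
      show σ (s (PresentedGroup.of y)) = PresentedGroup.of y
      rw [PresentedGroup.toGroup.of]
      exact (hβσ _).trans (gen_of nodes y)
    exact fun g => DFunLike.congr_fun this g
  have hk1 : ∀ x, σ (x * (s (σ x))⁻¹) = 1 := fun x => by rw [map_mul, map_inv, hsec, mul_inv_cancel]
  letI : CommGroup (Subgroup.center E) :=
    { (inferInstance : Group (Subgroup.center E)) with
      mul_comm := fun x y => Subtype.ext (Subgroup.mem_center_iff.1 y.2 x) }
  let φ : E →* Subgroup.center E := MonoidHom.mk'
    (fun x => ⟨x * (s (σ x))⁻¹, hk (MonoidHom.mem_ker.2 (hk1 x))⟩) fun x y => Subtype.ext (by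
      show x * y * (s (σ (x * y)))⁻¹ = x * (s (σ x))⁻¹ * (y * (s (σ y))⁻¹)
      rw [map_mul, map_mul, mul_inv_rev]
      calc x * y * ((s (σ y))⁻¹ * (s (σ x))⁻¹) = x * ((y * (s (σ y))⁻¹) * (s (σ x))⁻¹) := by simp only [mul_assoc]
        _ = x * ((s (σ x))⁻¹ * (y * (s (σ y))⁻¹)) := by rw [hcen (hk1 y)]
        _ = _ := by rw [← mul_assoc])
  have htriv : φ δ = 1 := by
    have : commutator E ≤ φ.ker := Abelianization.commutator_subset_ker φ
    exact this (hperf ▸ Subgroup.mem_top δ)
  have := congrArg Subtype.val htriv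
  change δ * (s (σ δ))⁻¹ = 1 at this
  rw [hσδ, map_one, inv_one, mul_one] at this
  exact hδ1 this

include hs hk in
/-- For each lift of a transposition there are seven commuting conjugates of it with product one. -/
theorem exists_seven {δ : E} (hker : ∀ x, σ x = 1 → x = 1 ∨ x = δ) (hδ : δ * δ = 1) (hδ1 : δ ≠ 1)
    (hσδ : σ δ = 1) (hperf : commutator E = ⊤) (hsq : ∀ u, σ u = a 0 → u * u = 1) {B : E} (hB : σ B = a 0) :
    ∃ c : ℕ → E, (∀ i < 7, ∀ j < 7, Commute (c i * B * (c i)⁻¹) (c j * B * (c j)⁻¹)) ∧
      ((List.range 7).map fun i => c i * B * (c i)⁻¹).prod = 1 := by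
  classical
  by_contra hno
  push Not at hno
  have hB' : σ (B * δ) = a 0 := by rw [map_mul, hB, hσδ, mul_one]
  have hc : ∀ (b : Bool) (c : ℕ → E), (∀ i < 7, σ (c i) = wd (refW (orthB b i))) →
      ∀ i < 7, σ (c i * B * (c i)⁻¹) = wd (palOf (orthB b i)) := fun b c h i hi => by
    rw [map_mul, map_mul, map_inv, h i hi, hB, refW_spec (orth_lenB b i hi)]
  refine perfect_not_trivial σ hs hk hker hδ hδ1 hσδ hperf hB' (hsq _ hB') fun b c h => ?_
  have hcomm : ∀ i < 7, ∀ j < 7, Commute (c i * B * (c i)⁻¹) (c j * B * (c j)⁻¹) := fun i hi j hj =>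
    conj_comm σ hs hk hB (by
      rw [hc b c h i hi, h j hj, refW_spec (orth_lenB b j hj)]
      exact orth_pairB b hi hj)
  have hθ1 : σ ((List.range 7).map fun i => c i * B * (c i)⁻¹).prod = 1 := by
    rw [map_list_prod, List.map_map, ← orth_oneB b, orthWordB]
    refine Eq.trans ?_ (palOf_flat a _ _).symm
    exact congrArg List.prod (List.map_congr_left fun i hi => hc b c h i (List.mem_range.1 hi))
  have hθ := (hker _ hθ1).resolve_left (hno c hcomm)
  have hcen : ∀ y : E, y * δ = δ * y := fun y => central' σ hk hσδ y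
  rw [List.map_congr_left (g := fun i => c i * B * (c i)⁻¹ * δ) fun i _ => by
    rw [show c i * (B * δ) * (c i)⁻¹ = c i * B * (δ * (c i)⁻¹) by group, ← hcen, ← mul_assoc]]
  rw [show ∀ l : List ℕ, (l.map fun i => c i * B * (c i)⁻¹ * δ).prod =
      (l.map fun i => c i * B * (c i)⁻¹).prod * δ ^ l.length from fun l => by
    induction l with
    | nil => simp
    | cons i l ih =>
      simp only [List.map_cons, List.prod_cons, ih, List.length_cons, pow_succ']
      rw [mul_assoc _ δ, ← mul_assoc δ, ← hcen]
      simp only [mul_assoc], hθ, List.length_range, ← pow_succ', pow_succ, show δ ^ 7 = (δ * δ) ^ 3 * δ by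
        rw [← pow_two, ← pow_mul, ← pow_succ], hδ]
  simp [hδ]

end CfsgLib.Recog.FiTwoMult
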