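import Cfsg.Agent.Lib.Recog.FiTwoMult.Words
import Cfsg.Agent.Lib.Recog.FiThree.Mult.Main
import Cfsg.Prelude.Def_KGroupFacts
import Mathlib.Tactic.Group
import Mathlib.GroupTheory.Commutator.Basic
import Mathlib.Tactic.IntervalCases

/-!
The kernel of a stem extension of Fi22 is cyclic of order dividing 6 (owner: helper18).

Lifts of transpositions form a class.  After normalising one of the two E₇ relators the kernel is generated by the
value of the other one, an involution, and by the value of the spider, of order three.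
-/

set_option autoImplicit false
set_option maxRecDepth 20000

namespace CfsgLib.Recog.FiTwoMult

open Cfsg CfsgLib.ThreeTrans.CosetIndex
open CfsgLib.Recog.FiThree.Mult (orth orthComm orthWord palOf coxSeven spider conC conD certC certE palOf_flat
  prod_pow_two central orth_range)
open CfsgLib.Recog.SporBound (relWord_one gen_inv gen_of)
open CfsgLib.Recog.SporBound.Fi22Group (a K nodes finite_fi22)
open CfsgLib.Recog.SporBound.Fi22U6 (a_sq stab_eq centralizer_a center_a origin trace_eq_act)
open Cfsg.Agent.S1687 (gens fits)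

open scoped commutatorElement

local notation "G" => Cfsg.Spor.Fi22

/-- The value of a word. -/
noncomputable abbrev wd (w : List ℕ) : G := (w.map a).prod

theorem wd_reverse (w : List ℕ) : wd w.reverse = (wd w)⁻¹ := prod_reverse_eq_inv a a_sq w

theorem pair_word {x y : ℕ} (hx : x < 9) (hy : y < 9) (hxy : x ≠ y) :
    wd (if adj x y then [x, y, x, y, x, y] else [x, y, x, y]) = 1 := by
  have hw := List.all_eq_true.1 (List.all_eq_true.1 pair_relators x (List.mem_range.2 hx)) y (List.mem_range.2 hy)
  rw [show Nat.beq x y = false from Bool.eq_false_iff.2 fun e => hxy (Nat.eq_of_beq_eq_true e), Bool.false_or] at hw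
  exact relWord_one nodes (List.contains_iff_mem.1 hw)

theorem a_big {x : ℕ} (hx : 9 ≤ x) : a x = 1 := by
  simp [a, CfsgLib.ThreeTrans.CosetIndex.gen, List.getElem?_eq_none (show gens.length ≤ x from hx)]

theorem adj_small {x y : ℕ} (h : adj x y = true) : x < 9 ∧ y < 9 ∧ x ≠ y := by
  simp only [adj, List.any_cons, List.any_nil, Bool.or_false, Bool.or_eq_true, Bool.and_eq_true, Nat.beq_eq] at h
  omega

theorem a_rel : CoxRel a where
  sq := a_sq
  braid x y h := by
    obtain ⟨hx, hy, hne⟩ := adj_small h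
    have e := pair_word hx hy hne
    rw [if_pos h] at e
    simp only [wd, List.map_cons, List.map_nil, List.prod_cons, List.prod_nil, mul_one] at e
    have e' := congrArg (fun z => z * (a y * (a x * a y))) e
    simp only [mul_assoc, one_mul, a_sq, mul_one, ← mul_assoc (a x) (a x), ← mul_assoc (a y) (a y)] at e'
    exact e'
  comm x y h := by
    rcases Nat.lt_or_ge x 9 with hx | hx
    swap
    · rw [a_big hx, one_mul, mul_one]
    rcases Nat.lt_or_ge y 9 with hy | hy
    swap
    · rw [a_big hy, one_mul, mul_one]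
    by_cases hne : x = y
    · rw [hne]
    have e := pair_word hx hy hne
    rw [if_neg (by rw [h]; simp)] at e
    simp only [wd, List.map_cons, List.map_nil, List.prod_cons, List.prod_nil, mul_one] at e
    have e' := congrArg (fun z => z * (a y * a x)) e
    simp only [mul_assoc, one_mul, a_sq, mul_one, ← mul_assoc (a x) (a x), ← mul_assoc (a y) (a y)] at e'
    exact e'

theorem wd_K {w : List ℕ} (h : w ∈ ([0, 2, 3, 4, 5, 6, 7, 8].map fun x => [x]) ++ [palOf pY, palOf pZ, wK]) :
    wd w ∈ K := by
  refine stab_eq.1 (Fin.ext ?_)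
  have h' := Nat.eq_of_beq_eq_true (List.all_eq_true.1 stab_check w h)
  rw [← trace_eq_act]
  exact h'

theorem a_K {x : ℕ} (hx : x ∈ [0, 2, 3, 4, 5, 6, 7, 8]) : a x ∈ K := by
  have h := wd_K (w := [x]) (List.mem_append_left _ (List.mem_map.2 ⟨x, hx, rfl⟩))
  simpa [wd] using h

theorem gw_spec {x : ℕ} (hx : x < 9) : wd (chain22 x) * a 0 * (wd (chain22 x))⁻¹ = a x := by
  have h := of_trOK (List.all_eq_true.1 tr_chain x (List.mem_range.2 hx))
  rw [List.map_append, List.map_append, List.map_append, List.prod_append, List.prod_append, List.prod_append,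
    List.map_singleton, List.prod_singleton, List.map_singleton, List.prod_singleton] at h
  have e := mul_eq_one_iff_eq_inv.1 h
  rw [inv_eq_of_mul_eq_one_right (a_sq x), prod_reverse_eq_inv a a_sq] at e
  exact e

/-- The conjugating word of a reflection. -/
def refW (e : List ℕ × ℕ) : List ℕ := e.1 ++ chain22 e.2

theorem refW_spec {e : List ℕ × ℕ} (he : e.2 < 9) : wd (refW e) * a 0 * (wd (refW e))⁻¹ = wd (palOf e) := by
  simp only [wd, refW, palOf, List.map_append, List.prod_append, List.map_singleton, List.prod_singleton]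
  rw [prod_reverse_eq_inv a a_sq e.1, ← gw_spec he]
  simp only [wd]
  group

theorem orth_letter {i : ℕ} (hi : i < 7) : (orth.getD i ([], 0)).2 < 9 := by
  have hl := orth_len.1
  rw [List.getD_eq_getElem _ _ (by omega)]
  simpa using List.all_eq_true.1 orth_len.2 _ (List.getElem_mem (show i < orth.length by omega))

theorem orth_pair {i j : ℕ} (hi : i < 7) (hj : j < 7) :
    wd (palOf (orth.getD i ([], 0))) * wd (palOf (orth.getD j ([], 0))) =
      wd (palOf (orth.getD j ([], 0))) * wd (palOf (orth.getD i ([], 0))) := by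
  have key : ∀ i j, i < 7 → j < 7 → i < j → wd (palOf (orth.getD i ([], 0))) * wd (palOf (orth.getD j ([], 0))) =
      wd (palOf (orth.getD j ([], 0))) * wd (palOf (orth.getD i ([], 0))) := by
    intro i j hi hj hij
    have h := List.all_eq_true.1 (List.all_eq_true.1 orth_comm i (List.mem_range.2 hi)) j (List.mem_range.2 hj)
    rw [show Nat.blt i j = true by rw [Nat.blt_eq]; exact hij, Bool.not_true, Bool.false_or, List.any_eq_true] at h
    obtain ⟨e, -, h⟩ := h
    have e1 := prod_eq_one a_rel (Bool.and_eq_true_iff.1 h).2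
    rw [List.map_append, List.map_append, List.map_append, List.prod_append, List.prod_append, List.prod_append] at e1
    have e2 : ∀ k, (wd (palOf (orth.getD k ([], 0))))⁻¹ = wd (palOf (orth.getD k ([], 0))) := fun k => by
      rw [← wd_reverse]
      congr 1
      simp [palOf]
    have e3 := eq_inv_of_mul_eq_one_left (show wd (palOf (orth.getD i ([], 0))) * wd (palOf (orth.getD j ([], 0))) *
      (wd (palOf (orth.getD i ([], 0))) * wd (palOf (orth.getD j ([], 0)))) = 1 by rw [← e1]; simp only [wd]; group)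
    rw [mul_inv_rev, e2, e2] at e3
    exact e3
  rcases Nat.lt_trichotomy i j with h | rfl | h
  · exact key i j hi hj h
  · rfl
  · exact (key j i hj hi h).symm

/-- A homomorphism on the point stabiliser into an abelian group that kills the first letter is trivial. -/
theorem hom_K_trivial {M : Type*} [CommGroup M] (φ : K →* M) (h0 : φ ⟨a 0, a_K (by decide)⟩ = 1) (k : K) :
    φ k = 1 := by
  classical
  let A : ℕ → K := fun x => if h : a x ∈ K then ⟨a x, h⟩ else 1
  have hA : ∀ x, x ∈ [0, 2, 3, 4, 5, 6, 7, 8] → (A x : G) = a x := fun x hx => by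
    simp only [A, dif_pos (a_K hx)]
  have hAw : ∀ w : List ℕ, (∀ x ∈ w, x ∈ [0, 2, 3, 4, 5, 6, 7, 8]) → ((w.map A).prod : K).val = wd w := by
    intro w hw
    rw [Subgroup.val_list_prod, List.map_map]
    exact congrArg List.prod (List.map_congr_left fun x hx => hA x (hw x hx))
  have hA0 : φ (A 0) = 1 := by
    rw [show A 0 = ⟨a 0, a_K (by decide)⟩ from Subtype.ext (hA 0 (by decide)), h0]
  have hsq : ∀ x, φ (A x) * φ (A x) = 1 := fun x => by
    rw [← map_mul]
    by_cases hx : a x ∈ K
    · rw [show A x = ⟨a x, hx⟩ from dif_pos hx, show (⟨a x, hx⟩ : K) * ⟨a x, hx⟩ = 1 from Subtype.ext (a_sq x),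
        map_one]
    · rw [show A x = 1 from dif_neg hx, mul_one, map_one]
  have hadj : ∀ x y, x ∈ [2, 3, 4, 5, 6, 7, 8] → y ∈ [2, 3, 4, 5, 6, 7, 8] → adj x y = true → φ (A x) = φ (A y) := by
    intro x y hx hy h
    have h1 : A x * (A y * A x) = A y * (A x * A y) := by
      refine Subtype.ext ?_
      simp only [Subgroup.coe_mul, hA x (List.mem_cons_of_mem _ hx), hA y (List.mem_cons_of_mem _ hy)]
      exact a_rel.braid x y h
    have h2 := congrArg φ h1
    rw [map_mul, map_mul, map_mul, map_mul, mul_left_comm] at h2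
    exact mul_right_cancel (b := φ (A x)) (mul_left_cancel (a := φ (A y)) (by rw [h2]; ac_rfl))
  have hall : ∀ x ∈ [2, 3, 4, 5, 6, 7, 8], φ (A x) = φ (A 2) := by
    have e3 := hadj 2 3 (by decide) (by decide) (by decide)
    have e4 := hadj 3 4 (by decide) (by decide) (by decide)
    have e5 := hadj 4 5 (by decide) (by decide) (by decide)
    have e6 := hadj 5 6 (by decide) (by decide) (by decide)
    have e7 := hadj 3 7 (by decide) (by decide) (by decide)
    have e8 := hadj 7 8 (by decide) (by decide) (by decide)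
    intro x hx
    simp only [List.mem_cons, List.not_mem_nil, or_false] at hx
    rcases hx with rfl | rfl | rfl | rfl | rfl | rfl | rfl
    · rfl
    · exact e3.symm
    · exact (e3.trans e4).symm
    · exact ((e3.trans e4).trans e5).symm
    · exact (((e3.trans e4).trans e5).trans e6).symm
    · exact (e3.trans e7).symm
    · exact ((e3.trans e7).trans e8).symm
  have hmap : ∀ w : List ℕ, φ (w.map A).prod = (w.map fun x => φ (A x)).prod := fun w => by
    rw [map_list_prod, List.map_map]
    rfl
  have hu : φ (A 2) = 1 := by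
    have h1 : (sevenA.map A).prod = 1 := Subtype.ext (by
      rw [hAw sevenA (fun x hx => by
        have := (show ∀ x ∈ sevenA, x ∈ [0, 2, 3, 4, 5, 6, 7, 8] by decide) x hx
        exact this)]
      exact of_trOK tr_sevenA)
    have h2 := congrArg φ h1
    rw [hmap, map_one, List.map_congr_left (g := fun _ => φ (A 2)) (fun x hx => hall x
      ((show ∀ x ∈ sevenA, x ∈ [2, 3, 4, 5, 6, 7, 8] by decide) x hx)), List.map_const', List.prod_replicate,
      show sevenA.length = 2 * 31 + 1 from rfl, pow_succ, pow_mul, pow_two, hsq, one_pow, one_mul] at h2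
    exact h2
  have hlet : ∀ x ∈ [0, 2, 3, 4, 5, 6, 7, 8], φ (A x) = 1 := by
    intro x hx
    rcases List.mem_cons.1 hx with rfl | hx
    · exact hA0
    · rw [hall x hx, hu]
  have hw : ∀ w : List ℕ, (∀ x ∈ w, x ∈ [0, 2, 3, 4, 5, 6, 7, 8]) → φ (w.map A).prod = 1 := fun w hw => by
    rw [hmap]
    exact List.prod_eq_one fun z hz => by
      obtain ⟨x, hx, rfl⟩ := List.mem_map.1 hz
      exact hlet x (hw x hx)
  let Y : K := ⟨wd (palOf pY), wd_K (by simp)⟩
  let Zr : K := ⟨wd (palOf pZ), wd_K (by simp)⟩
  let W : K := ⟨wd wK, wd_K (by simp)⟩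
  have hY : φ Y = 1 := by
    have h3 : (Y * A 5) * (Y * A 5) * (Y * A 5) = 1 := by
      refine Subtype.ext ?_
      simp only [Subgroup.coe_mul, hA 5 (by decide), OneMemClass.coe_one, Y, wd]
      have h := of_trOK tr_braid
      simpa only [List.map_append, List.prod_append, List.map_singleton, List.prod_singleton] using h
    have h2 : Y * Y = 1 := Subtype.ext (by
      simp only [Subgroup.coe_mul, OneMemClass.coe_one, Y]
      conv_lhs => arg 2; rw [show palOf pY = (palOf pY).reverse by simp [palOf]]
      rw [wd_reverse, mul_inv_cancel])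
    have e3 := congrArg φ h3
    have e2 := congrArg φ h2
    rw [map_mul, map_mul, map_mul, hlet 5 (by decide), mul_one, map_one] at e3
    rw [map_mul, map_one] at e2
    rwa [e2, one_mul] at e3
  have hZ : φ Zr = 1 := by
    rw [show Zr = ((palOf pZ).map A).prod from Subtype.ext (hAw _ (by decide)).symm]
    exact hw _ (by decide)
  have hW : φ W = 1 := by
    have h1 : W * ((([0, 2, 4, 7] : List ℕ).map A).prod * (Y * Zr)) = 1 := by
      refine Subtype.ext ?_
      simp only [Subgroup.coe_mul, OneMemClass.coe_one, W, Y, Zr, hAw [0, 2, 4, 7] (by decide)]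
      have h := of_trOK tr_wK
      simpa only [wd, List.map_append, List.prod_append] using h
    have e := congrArg φ h1
    rwa [map_mul, map_mul, map_mul, hw _ (by decide), hY, hZ, one_mul, one_mul, mul_one, map_one] at e
  have hle : (⊤ : Subgroup K) ≤ φ.ker := by
    rw [← Subgroup.map_le_map_iff_of_injective K.subtype_injective, ← MonoidHom.range_eq_map,
      Subgroup.range_subtype]
    conv_lhs => rw [K, map_closure_eq fits]
    rw [Subgroup.closure_le]
    rintro _ ⟨w, hw', rfl⟩
    rw [show FiHat3510.data.subs = [[0], [2], [3], [4], [5], [6], [7], [8], wK] by decide +kernel] at hw'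
    simp only [List.mem_cons, List.not_mem_nil, or_false] at hw'
    rcases hw' with rfl | rfl | rfl | rfl | rfl | rfl | rfl | rfl | rfl
    all_goals first
      | exact ⟨A 0, hA0, by simpa [wd] using hA 0 (by decide)⟩
      | exact ⟨A 2, hlet 2 (by decide), by simpa [wd] using hA 2 (by decide)⟩
      | exact ⟨A 3, hlet 3 (by decide), by simpa [wd] using hA 3 (by decide)⟩
      | exact ⟨A 4, hlet 4 (by decide), by simpa [wd] using hA 4 (by decide)⟩
      | exact ⟨A 5, hlet 5 (by decide), by simpa [wd] using hA 5 (by decide)⟩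
      | exact ⟨A 6, hlet 6 (by decide), by simpa [wd] using hA 6 (by decide)⟩
      | exact ⟨A 7, hlet 7 (by decide), by simpa [wd] using hA 7 (by decide)⟩
      | exact ⟨A 8, hlet 8 (by decide), by simpa [wd] using hA 8 (by decide)⟩
      | exact ⟨W, hW, rfl⟩
  exact hle (Subgroup.mem_top k)

section Ext

variable {E : Type*} [Group E] (σ : E →* G) (hs : Function.Surjective σ) (hk : σ.ker ≤ Subgroup.center E)

include hk in
theorem central' {x : E} (hx : σ x = 1) (y : E) : y * x = x * y :=
  Subgroup.mem_center_iff.1 (hk (MonoidHom.mem_ker.2 hx)) y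

include hs hk in
theorem stab_comm {B : E} (hB : σ B = a 0) {e : E} (he : σ e ∈ K) : e * B = B * e := by
  let f : K → Subgroup.center E := fun h =>
    ⟨Function.surjInv hs h * B * (Function.surjInv hs h)⁻¹ * B⁻¹, hk (MonoidHom.mem_ker.2 (by
      rw [map_mul, map_mul, map_mul, map_inv, map_inv, hB, Function.surjInv_eq hs, center_a _ h.2,
        mul_inv_cancel_right, mul_inv_cancel]))⟩
  have hf : ∀ (h : K) (d : E), σ d = h → d * B * d⁻¹ * B⁻¹ = (f h : E) := fun h d hd => by
    have hc : σ ((Function.surjInv hs h)⁻¹ * d) = 1 := by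
      rw [map_mul, map_inv, hd, Function.surjInv_eq hs, inv_mul_cancel]
    show _ = Function.surjInv hs h * B * (Function.surjInv hs h)⁻¹ * B⁻¹
    set c := (Function.surjInv hs h)⁻¹ * d
    rw [show d = Function.surjInv hs h * c by simp only [c]; group]
    have := central' σ hk hc B
    calc Function.surjInv hs h * c * B * (Function.surjInv hs h * c)⁻¹ * B⁻¹
        = Function.surjInv hs h * (c * B) * c⁻¹ * (Function.surjInv hs h)⁻¹ * B⁻¹ := by group
      _ = _ := by rw [← this]; group
  have hmul : ∀ h k, f (h * k) = f h * f k := fun h k => by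
    refine Subtype.ext ?_
    rw [← hf (h * k) (Function.surjInv hs h * Function.surjInv hs k) (by
      rw [map_mul, Function.surjInv_eq hs, Function.surjInv_eq hs]; rfl),
      show f h * f k = f k * f h from Subtype.ext (Subgroup.mem_center_iff.1 (f k).2 (f h : E))]
    show _ = (f k : E) * (f h : E)
    have hc := Subgroup.mem_center_iff.1 (f k).2 (Function.surjInv hs h)
    calc Function.surjInv hs h * Function.surjInv hs k * B * (Function.surjInv hs h * Function.surjInv hs k)⁻¹ * B⁻¹
        = Function.surjInv hs h * (f k : E) * B * (Function.surjInv hs h)⁻¹ * B⁻¹ := by simp only [f]; group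
      _ = _ := by rw [hc]; simp only [f]; group
  letI : CommGroup (Subgroup.center E) :=
    { (inferInstance : Group (Subgroup.center E)) with
      mul_comm := fun x y => Subtype.ext (Subgroup.mem_center_iff.1 y.2 x) }
  have h1 : f ⟨σ e, he⟩ = 1 := hom_K_trivial (MonoidHom.mk' f hmul) (by
    refine Subtype.ext ?_
    show (f _ : E) = _
    rw [← hf ⟨a 0, a_K (by decide)⟩ B hB]
    simp) ⟨σ e, he⟩
  have h2 := hf ⟨σ e, he⟩ e rfl
  rw [h1, OneMemClass.coe_one, mul_inv_eq_one, mul_inv_eq_iff_eq_mul] at h2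
  exact h2

variable {B : E} (hB : σ B = a 0)

include hs hk hB in
theorem conj_eq {e d : E} (h : σ e * a 0 * (σ e)⁻¹ = σ d * a 0 * (σ d)⁻¹) : e * B * e⁻¹ = d * B * d⁻¹ := by
  have hm : σ (d⁻¹ * e) ∈ K := by
    rw [← centralizer_a, Subgroup.mem_centralizer_singleton_iff, map_mul, map_inv]
    calc (σ d)⁻¹ * σ e * a 0 = (σ d)⁻¹ * (σ e * a 0 * (σ e)⁻¹) * σ e := by group
      _ = _ := by rw [h]; group
  have := stab_comm σ hs hk hB hm
  calc e * B * e⁻¹ = d * (d⁻¹ * e * B) * (d⁻¹ * e)⁻¹ * d⁻¹ := by group
    _ = _ := by rw [this]; group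

include hs hk hB in
theorem conj_comm {e d : E} (h : σ d * (σ e * a 0 * (σ e)⁻¹) = σ e * a 0 * (σ e)⁻¹ * σ d) :
    d * (e * B * e⁻¹) = e * B * e⁻¹ * d := by
  have := conj_eq σ hs hk hB (e := d * e) (d := e) (by
    rw [map_mul]
    calc σ d * σ e * a 0 * (σ d * σ e)⁻¹ = σ d * (σ e * a 0 * (σ e)⁻¹) * (σ d)⁻¹ := by group
      _ = _ := by rw [h, mul_inv_cancel_right])
  calc d * (e * B * e⁻¹) = (d * e * B * (d * e)⁻¹) * d := by group
    _ = _ := by rw [this]

end Ext

theorem coxSeven_one : wd coxSeven = 1 := by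
  refine relWord_one nodes (List.mem_append_right _ ?_)
  rw [extra_words]; simp

theorem orth_one : wd orthWord = 1 := by
  have h : wd (coxSeven ++ orthWord) = 1 := prod_eq_one a_rel seven_red
  simp only [wd, List.map_append, List.prod_append] at h ⊢
  rwa [show (coxSeven.map a).prod = 1 from coxSeven_one, one_mul] at h

theorem extra_one {u : List ℕ} (hu : u ∈ [spider, sevenTwo]) : wd u = 1 := by
  refine relWord_one nodes (List.mem_append_right _ ?_)
  rw [extra_words]
  simp only [List.mem_cons, List.not_mem_nil, or_false] at hu ⊢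
  rcases hu with rfl | rfl <;> simp

/-- The kernel of a stem extension of Fi22 is generated by one element of order dividing six. -/
theorem ker_cyclic {E : Type*} [Group E] (σ : E →* G) (hσ : Cfsg.IsStemExtension σ) :
    ∃ t : E, t ^ 6 = 1 ∧ σ.ker = Subgroup.zpowers t := by
  classical
  obtain ⟨hs, hk, hcom⟩ := hσ
  set lf := Function.surjInv hs with hlf
  have hl : ∀ g, σ (lf g) = g := Function.surjInv_eq hs
  set B₀ := lf (a 0)
  have hB₀ : σ B₀ = a 0 := hl _
  set z := B₀ * B₀ with hz
  have hz1 : σ z = 1 := by rw [hz, map_mul, hB₀, a_sq]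
  set c : ℕ → E := fun i => lf (wd (refW (orth.getD i ([], 0)))) with hc
  set θ := ((List.range 7).map fun i => c i * B₀ * (c i)⁻¹).prod with hθ
  have hθ1 : σ θ = 1 := by
    have e0 : wd orthWord = ((List.range 7).map fun i => wd (palOf (orth.getD i ([], 0)))).prod := by
      rw [orthWord, orth_range, List.flatMap_map]
      exact palOf_flat a _ _
    rw [hθ, map_list_prod, List.map_map, ← orth_one, e0]
    congr 1
    refine List.map_congr_left fun i hi => ?_
    rw [Function.comp_apply, map_mul, map_mul, map_inv, hc, hl, hB₀, refW_spec (orth_letter (List.mem_range.1 hi))]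
  have hθθ : θ * θ = z ^ 7 := by
    rw [hθ, prod_pow_two (z := z)]
    · simp
    · intro u hu
      obtain ⟨i, -, rfl⟩ := List.mem_map.1 hu
      calc c i * B₀ * (c i)⁻¹ * (c i * B₀ * (c i)⁻¹) = c i * z * (c i)⁻¹ := by rw [hz]; group
        _ = z := by rw [central' σ hk hz1, mul_inv_cancel_right]
    · intro u hu v hv
      obtain ⟨i, hi, rfl⟩ := List.mem_map.1 hu
      obtain ⟨j, hj, rfl⟩ := List.mem_map.1 hv
      refine conj_comm σ hs hk hB₀ ?_
      rw [map_mul, map_mul, map_inv, hB₀, hc, hl, hl, refW_spec (orth_letter (List.mem_range.1 hi)),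
        refW_spec (orth_letter (List.mem_range.1 hj))]
      exact orth_pair (List.mem_range.1 hi) (List.mem_range.1 hj)
  set ζ := θ⁻¹ * z ^ 3 with hζ
  have hζ1 : σ ζ = 1 := by rw [hζ, map_mul, map_inv, map_pow, hθ1, hz1, inv_one, one_pow, one_mul]
  have hzθ : Commute z θ := (central' σ hk hz1 θ).symm
  set B := B₀ * ζ with hBdef
  have hB : σ B = a 0 := by rw [hBdef, map_mul, hB₀, hζ1, mul_one]
  have hζζ : ζ * ζ = z⁻¹ := by
    rw [hζ, show θ⁻¹ * z ^ 3 * (θ⁻¹ * z ^ 3) = (θ * θ)⁻¹ * (z ^ 3 * z ^ 3) by
      rw [mul_inv_rev]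
      calc θ⁻¹ * z ^ 3 * (θ⁻¹ * z ^ 3) = θ⁻¹ * (z ^ 3 * θ⁻¹) * z ^ 3 := by simp only [mul_assoc]
        _ = _ := by rw [((hzθ.inv_right).pow_left 3).eq]; simp only [mul_assoc], hθθ, ← pow_add]
    group
  have hBsq : B * B = 1 := by
    rw [hBdef, show B₀ * ζ * (B₀ * ζ) = B₀ * (ζ * B₀) * ζ by group, ← central' σ hk hζ1 B₀,
      show B₀ * (B₀ * ζ) * ζ = z * (ζ * ζ) by rw [hz]; group, hζζ, mul_inv_cancel]
  set β : ℕ → E := fun x => if x < 9 then lf (wd (chain22 x)) * B * (lf (wd (chain22 x)))⁻¹ else 1 with hβ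
  have hβσ : ∀ x, σ (β x) = a x := fun x => by
    rcases Nat.lt_or_ge x 9 with hx | hx
    · simp only [hβ, if_pos hx, map_mul, map_inv, hl, hB, gw_spec hx]
    · simp only [hβ, if_neg (Nat.not_lt.2 hx), map_one, a_big hx]
  have hrel : CoxRel β := by
    refine ⟨fun x => ?_, fun x y h => ?_, fun x y h => ?_⟩
    · rcases Nat.lt_or_ge x 9 with hx | hx
      · simp only [hβ, if_pos hx]
        calc lf (wd (chain22 x)) * B * (lf (wd (chain22 x)))⁻¹ * (lf (wd (chain22 x)) * B * (lf (wd (chain22 x)))⁻¹)
            = lf (wd (chain22 x)) * (B * B) * (lf (wd (chain22 x)))⁻¹ := by group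
          _ = 1 := by rw [hBsq, mul_one, mul_inv_cancel]
      · simp only [hβ, if_neg (Nat.not_lt.2 hx), mul_one]
    · obtain ⟨hx, hy, -⟩ := adj_small h
      have e := conj_eq σ hs hk hB (e := β x * β y * lf (wd (chain22 x))) (d := lf (wd (chain22 y))) (by
        rw [map_mul, map_mul, hβσ, hβσ, hl, hl, gw_spec hy]
        calc a x * a y * wd (chain22 x) * a 0 * (a x * a y * wd (chain22 x))⁻¹
            = a x * a y * (wd (chain22 x) * a 0 * (wd (chain22 x))⁻¹) * (a x * a y)⁻¹ := by group
          _ = a x * a y * a x * (a x * a y)⁻¹ := by rw [gw_spec hx]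
          _ = _ := by rw [mul_assoc (a x), a_rel.braid x y h]; group)
      have e' : β x * β y * β x * (β x * β y)⁻¹ = β y := by
        calc β x * β y * β x * (β x * β y)⁻¹
            = β x * β y * (lf (wd (chain22 x)) * B * (lf (wd (chain22 x)))⁻¹) * (β x * β y)⁻¹ := by
              rw [← show β x = lf (wd (chain22 x)) * B * (lf (wd (chain22 x)))⁻¹ from if_pos hx]
          _ = β x * β y * lf (wd (chain22 x)) * B * (β x * β y * lf (wd (chain22 x)))⁻¹ := by group
          _ = _ := e.trans (show β y = _ from if_pos hy).symm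
      calc β x * (β y * β x) = β x * β y * β x * (β x * β y)⁻¹ * (β x * β y) := by group
        _ = _ := by rw [e']
    · rcases Nat.lt_or_ge x 9 with hx | hx
      swap
      · simp only [hβ, if_neg (Nat.not_lt.2 hx), one_mul, mul_one]
      rcases Nat.lt_or_ge y 9 with hy | hy
      swap
      · simp only [hβ, if_neg (Nat.not_lt.2 hy), one_mul, mul_one]
      rw [show β y = lf (wd (chain22 y)) * B * (lf (wd (chain22 y)))⁻¹ from if_pos hy]
      exact conj_comm σ hs hk hB (by rw [hβσ, hl, gw_spec hy]; exact a_rel.comm x y h)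
  have hβw : ∀ w : List ℕ, σ (w.map β).prod = wd w := fun w => by
    rw [map_list_prod, List.map_map]
    exact congrArg List.prod (List.map_congr_left fun x _ => hβσ x)
  have hrev : ∀ w : List ℕ, (w.reverse.map β).prod = ((w.map β).prod)⁻¹ := fun w =>
    prod_reverse_eq_inv β hrel.sq w
  have hpal : ∀ e : List ℕ × ℕ, e.2 < 9 → ∀ d : E, σ d = wd (refW e) → ((palOf e).map β).prod = d * B * d⁻¹ := by
    intro e he d hd
    rw [palOf, List.map_append, List.map_append, List.prod_append, List.prod_append, hrev, List.map_singleton,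
      List.prod_singleton, show β e.2 = lf (wd (chain22 e.2)) * B * (lf (wd (chain22 e.2)))⁻¹ from if_pos he]
    rw [← conj_eq σ hs hk hB (e := (e.1.map β).prod * lf (wd (chain22 e.2))) (d := d) (by
      rw [map_mul, hβw, hl, hd]
      simp only [wd, refW, List.map_append, List.prod_append])]
    group
  have horth : (orthWord.map β).prod = 1 := by
    rw [orthWord, orth_range, List.flatMap_map, palOf_flat]
    have e : (List.range 7).map (fun i => ((palOf (orth.getD i ([], 0))).map β).prod) =
        (List.range 7).map fun i => c i * B₀ * (c i)⁻¹ * ζ := List.map_congr_left fun i hi => by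
      rw [hpal _ (orth_letter (List.mem_range.1 hi)) (c i) (hl _), hBdef,
        show c i * (B₀ * ζ) * (c i)⁻¹ = c i * B₀ * (ζ * (c i)⁻¹) by group, ← central' σ hk hζ1 ((c i)⁻¹), ← mul_assoc]
    rw [e]
    have key : ∀ l : List ℕ, (l.map fun i => c i * B₀ * (c i)⁻¹ * ζ).prod =
        (l.map fun i => c i * B₀ * (c i)⁻¹).prod * ζ ^ l.length := by
      intro l
      induction l with
      | nil => simp
      | cons i l ih =>
        simp only [List.map_cons, List.prod_cons, ih, List.length_cons, pow_succ']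
        rw [mul_assoc _ ζ, ← mul_assoc ζ, ← central' σ hk hζ1]
        simp only [mul_assoc]
    rw [key, ← hθ, List.length_range, show ζ ^ 7 = ((ζ * ζ) ^ 3) * ζ by rw [← pow_two, ← pow_mul, ← pow_succ],
      hζζ, hζ]
    have : θ * ((z⁻¹) ^ 3 * (θ⁻¹ * z ^ 3)) = 1 := by
      rw [← mul_assoc ((z⁻¹) ^ 3), ((hzθ.inv_left).inv_right.pow_left 3).eq]
      group
    exact this
  have hseven : (coxSeven.map β).prod = 1 := by
    have h := prod_eq_one hrel seven_red
    rwa [List.map_append, List.prod_append, horth, mul_one] at h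
  set w := (spider.map β).prod with hw
  set v := (sevenTwo.map β).prod with hv
  have hw1 : σ w = 1 := by rw [hw, hβw, extra_one (by simp)]
  have hv1 : σ v = 1 := by rw [hv, hβw, extra_one (by simp)]
  have hwc : ∀ y, y * w * y⁻¹ = w := fun y => by rw [central' σ hk hw1, mul_inv_cancel_right]
  have hw3 : w ^ 3 = 1 := by
    have h := prod_eq_one hrel cube_red
    simp only [List.map_append, List.prod_append, hrev, ← hw, hwc] at h
    rw [pow_succ, pow_two]
    exact h
  have hv2 : v ^ 2 = 1 := by
    have h := prod_eq_one hrel square_red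
    rw [List.map_append, List.prod_append, ← hv] at h
    rwa [pow_two]
  have hwv : Commute w v := central' σ hk hv1 w
  set t := w * v with ht
  have ht6 : t ^ 6 = 1 := by
    rw [ht, hwv.mul_pow, show (6 : ℕ) = 3 * 2 from rfl, pow_mul, hw3, one_pow, one_mul, mul_comm, pow_mul, hv2,
      one_pow]
  have htw : w ∈ Subgroup.zpowers t := ⟨4, by
    show t ^ (4 : ℤ) = w
    rw [show (4 : ℤ) = ((4 : ℕ) : ℤ) from rfl, zpow_natCast, ht, hwv.mul_pow, show (4 : ℕ) = 2 * 2 from rfl,
      pow_mul v, hv2, one_pow, mul_one, show (2 : ℕ) * 2 = 3 + 1 from rfl, pow_add, hw3, one_mul, pow_one]⟩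
  have htv : v ∈ Subgroup.zpowers t := ⟨3, by
    show t ^ (3 : ℤ) = v
    rw [show (3 : ℤ) = ((3 : ℕ) : ℤ) from rfl, zpow_natCast, ht, hwv.mul_pow, hw3, one_mul,
      pow_succ, hv2, one_mul]⟩
  have htk : Subgroup.zpowers t ≤ σ.ker := Subgroup.zpowers_le.2 (MonoidHom.mem_ker.2 (by
    rw [ht, map_mul, hw1, hv1, one_mul]))
  haveI : (Subgroup.zpowers t).Normal := Subgroup.Normal.mk fun n hn y => by
    rw [central' σ hk (MonoidHom.mem_ker.1 (htk hn)) y, mul_inv_cancel_right]
    exact hn
  let N := Subgroup.zpowers t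
  let β' : ℕ → E ⧸ N := fun x => QuotientGroup.mk (β x)
  have hrel' : CoxRel β' := by
    refine ⟨fun x => ?_, fun x y h => ?_, fun x y h => ?_⟩
    · show QuotientGroup.mk' N (β x) * QuotientGroup.mk' N (β x) = 1
      rw [← map_mul, hrel.sq, map_one]
    · show QuotientGroup.mk' N (β x) * (QuotientGroup.mk' N (β y) * QuotientGroup.mk' N (β x)) =
        QuotientGroup.mk' N (β y) * (QuotientGroup.mk' N (β x) * QuotientGroup.mk' N (β y))
      simp only [← map_mul]
      rw [hrel.braid x y h]
    · show QuotientGroup.mk' N (β x) * QuotientGroup.mk' N (β y) = QuotientGroup.mk' N (β y) * QuotientGroup.mk' N (β x)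
      rw [← map_mul, ← map_mul, hrel.comm x y h]
  have hβ'w : ∀ u : List ℕ, (u.map β').prod = QuotientGroup.mk' N (u.map β).prod := fun u => by
    rw [map_list_prod, List.map_map]
    rfl
  let s : G →* E ⧸ N := PresentedGroup.toGroup (f := fun y => β' (gens.idxOf y)) (by
    rintro r (⟨x, -, y, -, rfl⟩ | hr)
    · rw [map_pow, map_mul, FreeGroup.lift_apply_of, FreeGroup.lift_apply_of, label_check]
      split_ifs with h1 h2
      · rw [pow_one, h1, hrel'.sq]
      · rw [show (3 : ℕ) = 1 + 1 + 1 from rfl, pow_succ, pow_succ, pow_one]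
        calc β' (gens.idxOf x) * β' (gens.idxOf y) * (β' (gens.idxOf x) * β' (gens.idxOf y)) *
              (β' (gens.idxOf x) * β' (gens.idxOf y))
            = β' (gens.idxOf x) * (β' (gens.idxOf y) * β' (gens.idxOf x)) *
              (β' (gens.idxOf y) * (β' (gens.idxOf x) * β' (gens.idxOf y))) := by group
          _ = β' (gens.idxOf x) * (β' (gens.idxOf y) * β' (gens.idxOf x)) *
              (β' (gens.idxOf x) * (β' (gens.idxOf y) * β' (gens.idxOf x))) := by rw [← hrel'.braid _ _ h2]
          _ = 1 := by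
            simp only [mul_assoc, ← mul_assoc (β' (gens.idxOf x)) (β' (gens.idxOf x)),
              ← mul_assoc (β' (gens.idxOf y)) (β' (gens.idxOf y)), hrel'.sq, one_mul, mul_one]
      · rw [pow_two, hrel'.comm _ _ (Bool.eq_false_iff.2 h2)]
        calc β' (gens.idxOf y) * β' (gens.idxOf x) * (β' (gens.idxOf y) * β' (gens.idxOf x))
            = β' (gens.idxOf y) * β' (gens.idxOf x) * (β' (gens.idxOf x) * β' (gens.idxOf y)) := by
              rw [hrel'.comm _ _ (Bool.eq_false_iff.2 h2)]
          _ = 1 := by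
            simp only [mul_assoc, ← mul_assoc (β' (gens.idxOf x)) (β' (gens.idxOf x)), hrel'.sq, one_mul]
    · rw [hom_eq_prod gens _ β' (fun y => FreeGroup.lift_apply_of) hrel'.sq, hβ'w, QuotientGroup.mk'_apply,
        QuotientGroup.eq_one_iff]
      have hm : letters gens r ∈ Spor.Fi22.extra.map (letters gens) := List.mem_map.2 ⟨r, hr, rfl⟩
      rw [extra_words] at hm
      simp only [List.mem_cons, List.not_mem_nil, or_false] at hm
      rcases hm with e | e | e <;> rw [e]
      · exact htw
      · rw [hseven]; exact one_mem _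
      · exact htv)
  let σ' : E ⧸ N →* G := QuotientGroup.lift N σ htk
  have hsec : ∀ g, σ' (s g) = g := by
    have : σ'.comp s = MonoidHom.id G := PresentedGroup.ext fun y => by
      show σ' (s (PresentedGroup.of y)) = PresentedGroup.of y
      rw [PresentedGroup.toGroup.of]
      exact (hβσ _).trans (gen_of nodes y)
    exact fun g => DFunLike.congr_fun this g
  have hcen : ∀ {p : E ⧸ N}, σ' p = 1 → ∀ q, q * p = p * q := by
    intro p hp q
    induction p using QuotientGroup.induction_on with
    | _ p => induction q using QuotientGroup.induction_on with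
      | _ q => rw [← QuotientGroup.mk_mul, ← QuotientGroup.mk_mul, central' σ hk hp q]
  have hle : commutator (E ⧸ N) ≤ s.range := by
    rw [commutator_def, Subgroup.commutator_le]
    intro p _ q _
    refine ⟨⁅σ' p, σ' q⁆, ?_⟩
    have hd : ∀ p, σ' ((s (σ' p))⁻¹ * p) = 1 := fun p => by rw [map_mul, map_inv, hsec, inv_mul_cancel]
    have key : ∀ u v p q : E ⧸ N, σ' p = 1 → σ' q = 1 → ⁅u * p, v * q⁆ = ⁅u, v⁆ := fun u v p q hp hq => by
      simp only [commutatorElement_def]
      calc u * p * (v * q) * (u * p)⁻¹ * (v * q)⁻¹ = u * (p * v) * q * p⁻¹ * u⁻¹ * q⁻¹ * v⁻¹ := by group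
        _ = u * (v * p) * q * p⁻¹ * u⁻¹ * q⁻¹ * v⁻¹ := by rw [hcen hp v]
        _ = u * v * (p * q) * p⁻¹ * u⁻¹ * q⁻¹ * v⁻¹ := by group
        _ = u * v * (q * p) * p⁻¹ * u⁻¹ * q⁻¹ * v⁻¹ := by rw [hcen hq p]
        _ = u * v * (q * u⁻¹) * q⁻¹ * v⁻¹ := by group
        _ = u * v * (u⁻¹ * q) * q⁻¹ * v⁻¹ := by rw [hcen hq u⁻¹]
        _ = _ := by group
    conv_rhs => rw [show p = s (σ' p) * ((s (σ' p))⁻¹ * p) by group, show q = s (σ' q) * ((s (σ' q))⁻¹ * q) by group,
      key _ _ _ _ (hd p) (hd q)]
    rw [map_commutatorElement]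
  refine ⟨t, ht6, le_antisymm (fun x hx => ?_) htk⟩
  have hm : QuotientGroup.mk' N x ∈ commutator (E ⧸ N) := by
    have h : (commutator E).map (QuotientGroup.mk' N) ≤ commutator (E ⧸ N) := by
      rw [commutator_def, Subgroup.map_commutator, commutator_def]
      exact Subgroup.commutator_mono le_top le_top
    exact h ⟨x, hcom hx, rfl⟩
  obtain ⟨g, hg⟩ := hle hm
  have hg1 : g = 1 := by
    rw [← hsec g, hg]
    exact MonoidHom.mem_ker.1 hx
  rw [hg1, map_one] at hg
  exact (QuotientGroup.eq_one_iff x).1 hg.symm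

end CfsgLib.Recog.FiTwoMult
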