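import Cfsg.Agent.Lib.Recog.FiThree.Transpositions
import Cfsg.Agent.Lib.Recog.SporBound.Fi22Group
import Cfsg.Prelude.Def_KGroupFacts

/-!
A double cover of Fi22 inside Fi23 (owner: helper18).

The first nine generators of Fi23 satisfy the relators of Fi22 up to the transposition they centralise.
-/

set_option autoImplicit false
set_option maxRecDepth 20000

namespace CfsgLib.Recog.FiTwoMult

open Cfsg CfsgLib.ThreeTrans.CosetIndex CfsgLib.Recog.SporBound CfsgLib.Recog.BitPerm
open CfsgLib.Recog.FiThree (hSub gg zz zW hLetters finite_fi23')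
open CfsgLib.Recog.SporBound.Fi22Group (a)
open Cfsg.Agent.S1687 renaming gens → gens22

attribute [local instance] finite_fi23'

/-- The double cover. -/
abbrev G2 : Subgroup Spor.Fi23 := hSub

/-- A letter in the double cover. -/
noncomputable def g2 (x : ℕ) : G2 := if h : x ∈ hLetters then ⟨gg x, FiThree.gg_mem_h h⟩ else 1

theorem g2_val {x : ℕ} (hx : x ∈ hLetters) : (g2 x : Spor.Fi23) = gg x := by
  rw [g2, dif_pos hx]

theorem mem_hLetters {x : ℕ} : x ∈ hLetters ↔ x < 9 := by
  rw [show hLetters = List.range 9 from rfl, List.mem_range]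

theorem g2_sq (x : ℕ) : g2 x * g2 x = 1 := by
  by_cases hx : x ∈ hLetters
  · exact Subtype.ext (by rw [Subgroup.coe_mul, g2_val hx]; exact FiThree.gg_sq x)
  · rw [g2, dif_neg hx, one_mul]

theorem g2_word {w : List ℕ} (hw : ∀ x ∈ w, x ∈ hLetters) : ((w.map g2).prod : G2).val = FiThree.word w := by
  induction w with
  | nil => simp [FiThree.word]
  | cons x w ih =>
    rw [List.map_cons, List.prod_cons, Subgroup.coe_mul, g2_val (hw x (by simp)),
      ih fun y hy => hw y (List.mem_cons_of_mem _ hy)]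
    simp [FiThree.word]

/-- The central involution. -/
noncomputable def zz2 : G2 := ⟨zz, FiThree.zz_mem_h⟩

theorem zz2_pow : zz2 ^ 2 = 1 := Subtype.ext (by
  rw [pow_two, Subgroup.coe_mul]
  exact FiThree.zz_sq)

theorem zz2_central : zz2 ∈ Subgroup.center G2 :=
  Subgroup.mem_center_iff.2 fun g => Subtype.ext (FiThree.zz_comm g.2)

/-- The centre of the double cover. -/
noncomputable abbrev Z2 : Subgroup G2 := Subgroup.zpowers zz2

theorem Z2_le_center : Z2 ≤ Subgroup.center G2 := Subgroup.zpowers_le.2 zz2_central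

instance : Z2.Normal := Subgroup.Normal.mk fun n hn g => by
  rw [Subgroup.mem_center_iff.1 (Z2_le_center hn) g, mul_inv_cancel_right]
  exact hn

theorem relators_check :
    ((relWords Spor.Fi22.edges Spor.Fi22.extra gens22).all fun w => (w.all fun x => hLetters.contains x) &&
      (w == zW || (relWords Spor.Fi23.edges Spor.Fi23.extra FiThree.gens).contains w)) = true := by decide +kernel

/-- The map from Fi22 to the cover modulo its centre. -/
noncomputable def psi2 : Spor.Fi22 →* G2 ⧸ Z2 :=
  PresentedGroup.toGroup (f := fun y => QuotientGroup.mk (g2 (gens22.idxOf y))) (by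
    intro r hr
    rw [hom_eq_prod gens22 _ (fun x => (QuotientGroup.mk (g2 x) : G2 ⧸ Z2)) (fun y => FreeGroup.lift_apply_of)
      (fun x => by rw [← QuotientGroup.mk_mul, g2_sq, QuotientGroup.mk_one])]
    have hm : letters gens22 r ∈ relWords Spor.Fi22.edges Spor.Fi22.extra gens22 := by
      rw [relWords, List.mem_append]
      rcases hr with ⟨x, hx, y, hy, rfl⟩ | hr
      · exact Or.inl (List.mem_flatMap.2 ⟨x, hx, List.mem_map.2 ⟨y, hy, rfl⟩⟩)
      · exact Or.inr (List.mem_map.2 ⟨r, hr, rfl⟩)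
    have e : ((letters gens22 r).map fun x => (QuotientGroup.mk (g2 x) : G2 ⧸ Z2)).prod =
        QuotientGroup.mk' Z2 ((letters gens22 r).map g2).prod := by
      rw [map_list_prod, List.map_map]
      rfl
    rw [e, QuotientGroup.mk'_apply, QuotientGroup.eq_one_iff]
    have h := List.all_eq_true.1 relators_check _ hm
    rw [Bool.and_eq_true, Bool.or_eq_true] at h
    have hw : ∀ x ∈ letters gens22 r, x ∈ hLetters := fun x hx =>
      List.contains_iff_mem.1 (List.all_eq_true.1 h.1 x hx)
    rcases h.2 with h' | h'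
    · rw [show ((letters gens22 r).map g2).prod = zz2 from Subtype.ext (by
        rw [g2_word hw, beq_iff_eq.1 h']; rfl)]
      exact Subgroup.mem_zpowers zz2
    · rw [show ((letters gens22 r).map g2).prod = 1 from Subtype.ext (by
        rw [g2_word hw]; exact relWord_one FiThree.nodes (List.contains_iff_mem.1 h'))]
      exact one_mem _)

theorem psi2_a (x : ℕ) : psi2 (a x) = QuotientGroup.mk (g2 x) := by
  rcases Nat.lt_or_ge x gens22.length with hx | hx
  · rw [show a x = PresentedGroup.of (gens22[x]) by simp [a, gen, List.getElem?_eq_getElem hx]]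
    rw [psi2, PresentedGroup.toGroup.of]
    congr 2
    exact (show gens22.Nodup by decide).idxOf_getElem x hx
  · rw [show a x = 1 by simp [a, gen, List.getElem?_eq_none hx], map_one,
      show g2 x = 1 from dif_neg fun h => absurd (mem_hLetters.1 h) (Nat.not_lt.2 hx), QuotientGroup.mk_one]

theorem closure_g2 : Subgroup.closure (Set.range g2) = ⊤ := by
  rw [eq_top_iff, ← Subgroup.map_le_map_iff_of_injective G2.subtype_injective, MonoidHom.map_closure,
    ← MonoidHom.range_eq_map, Subgroup.range_subtype]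
  refine (Subgroup.closure_le _).2 ?_
  rintro _ ⟨x, hx, rfl⟩
  exact Subgroup.subset_closure ⟨g2 x, ⟨x, rfl⟩, g2_val hx⟩

theorem g2_zero_notMem : g2 0 ∉ Z2 := fun h => by
  obtain ⟨k, hk⟩ := Subgroup.mem_zpowers_iff.1 h
  have e : (zz : Spor.Fi23) ^ k = gg 0 := by
    rw [← g2_val (show (0 : ℕ) ∈ hLetters by decide), ← hk, SubgroupClass.coe_zpow]
    rfl
  have hga : FiThree.word FiThree.ga ∉ hSub := fun hmem => by
    have := FiThree.pt_h hmem
    exact absurd (FiThree.pt_ga.symm.trans this) (show FiThree.pA ≠ 0 by decide)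
  refine hga ?_
  rw [← FiThree.centralizer_zz, Subgroup.mem_centralizer_singleton_iff]
  have hz := FiThree.ga_zz
  rw [← e] at hz
  have hc : zz * (FiThree.word FiThree.ga * zz * (FiThree.word FiThree.ga)⁻¹) =
      FiThree.word FiThree.ga * zz * (FiThree.word FiThree.ga)⁻¹ * zz := by
    rw [hz]; exact ((Commute.refl zz).zpow_right k).eq
  rcases Int.even_or_odd k with ⟨m, rfl⟩ | ⟨m, rfl⟩
  · rw [← two_mul, zpow_mul, show zz ^ (2 : ℤ) = 1 from (zpow_two zz).trans FiThree.zz_sq, one_zpow,
      mul_inv_eq_one, mul_eq_left] at hz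
    exact absurd hz (fun h1 => by
      have := FiThree.orderOf_zz
      rw [h1, orderOf_one] at this
      omega)
  · rw [zpow_add, zpow_mul, show zz ^ (2 : ℤ) = 1 from (zpow_two zz).trans FiThree.zz_sq, one_zpow, one_mul,
      zpow_one, mul_inv_eq_iff_eq_mul] at hz
    exact hz

theorem psi2_bij : Function.Bijective psi2 := by
  haveI := Fi22Group.isSimple
  refine ⟨?_, ?_⟩
  · rcases (inferInstance : psi2.ker.Normal).eq_bot_or_eq_top with h | h
    · exact (MonoidHom.ker_eq_bot_iff _).1 h
    · exfalso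
      have h0 : psi2 (a 0) = 1 := MonoidHom.mem_ker.1 (h ▸ Subgroup.mem_top _)
      rw [psi2_a, QuotientGroup.eq_one_iff] at h0
      exact g2_zero_notMem h0
  · rw [← MonoidHom.range_eq_top, eq_top_iff,
      ← Subgroup.map_top_of_surjective _ (QuotientGroup.mk'_surjective Z2), ← closure_g2, MonoidHom.map_closure,
      Subgroup.closure_le]
    rintro _ ⟨_, ⟨x, rfl⟩, rfl⟩
    exact ⟨a x, psi2_a x⟩

/-- The double covering map. -/
noncomputable def sigma2 : G2 →* Spor.Fi22 :=
  (MulEquiv.ofBijective psi2 psi2_bij).symm.toMonoidHom.comp (QuotientGroup.mk' Z2)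

theorem sigma2_ker : sigma2.ker = Z2 := by
  ext g
  rw [sigma2, MonoidHom.mem_ker, MonoidHom.comp_apply, MulEquiv.toMonoidHom_eq_coe, MonoidHom.coe_coe,
    map_eq_one_iff _ (MulEquiv.injective _), QuotientGroup.mk'_apply, QuotientGroup.eq_one_iff]

theorem card_Z2 : Nat.card Z2 = 2 := by
  rw [Nat.card_zpowers, orderOf_eq_prime_iff]
  exact ⟨zz2_pow, fun e => by
    have := FiThree.orderOf_zz
    rw [show zz = (1 : Spor.Fi23) from congrArg Subtype.val e, orderOf_one] at this
    omega⟩

theorem commutator_G2 : commutator G2 = ⊤ := by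
  let q : hSub →* Abelianization hSub := Abelianization.of
  have hu := FiThree.hom_trivial (K := hSub) (fun x hx => FiThree.gg_mem_h hx) q
    (u := q ⟨gg 0, FiThree.gg_mem_h (by decide)⟩) fun x hx => by
      obtain ⟨c, hc, e⟩ := FiThree.gg_conj_in hSub (fun y hy => FiThree.gg_mem_h hy) hx
      rw [show (⟨gg x, FiThree.gg_mem_h hx⟩ : hSub) =
        ⟨c, hc⟩ * ⟨gg 0, FiThree.gg_mem_h (by decide)⟩ * (⟨c, hc⟩ : hSub)⁻¹ from Subtype.ext e, map_mul, map_mul,
        map_inv, mul_right_comm, mul_inv_cancel, one_mul]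
  rw [eq_top_iff, ← closure_g2, Subgroup.closure_le]
  rintro _ ⟨x, rfl⟩
  show g2 x ∈ commutator G2
  rw [← QuotientGroup.eq_one_iff]
  show q (g2 x) = 1
  by_cases hx : x ∈ hLetters
  · obtain ⟨c, hc, e⟩ := FiThree.gg_conj_in hSub (fun y hy => FiThree.gg_mem_h hy) hx
    rw [show g2 x = ⟨c, hc⟩ * ⟨gg 0, FiThree.gg_mem_h (by decide)⟩ * (⟨c, hc⟩ : hSub)⁻¹ from
      Subtype.ext ((g2_val hx).trans e), map_mul, map_mul, hu, mul_one, map_inv, mul_inv_cancel]
  · rw [g2, dif_neg hx, map_one]

theorem stem2 : Cfsg.IsStemExtension sigma2 :=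
  ⟨(MulEquiv.ofBijective psi2 psi2_bij).symm.surjective.comp (QuotientGroup.mk'_surjective Z2),
    sigma2_ker ▸ Z2_le_center, by rw [commutator_G2]; exact le_top⟩

end CfsgLib.Recog.FiTwoMult
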