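import Cfsg.Agent.Lib.Recog.FiTwoMult.Data
import Cfsg.Agent.Lib.Recog.SporBound.Fi22Group
import Cfsg.Agent.Lib.Sporadic.F2Bits
import Cfsg.Prelude.Def_KGroupFacts

/-!
A triple cover of Fi22 (owner: helper18).

Nine root involutions of a 27-dimensional group over the field of four elements satisfy the relators of Fi22 up to
a scalar, which the spider word attains.
-/

set_option autoImplicit false
set_option maxRecDepth 100000

namespace CfsgLib.Recog.FiTwoMult

open Cfsg CfsgLib.ThreeTrans.CosetIndex CfsgLib.Recog.SporBound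
open CfsgLib.Recog.SporBound.Fi22Group (a nodes)
open Cfsg.Agent.S1687 (gens)
open CfsgLib.Sporadic.RuMod (dec dec_mm dec_xor dec_one dec_inj mm Mat one)

/-- Product of pairs of bit planes. -/
noncomputable def pm (p q : ℕ × ℕ) : ℕ × ℕ :=
  (Nat.xor (mm p.1 q.1) (mm p.2 q.2), Nat.xor (Nat.xor (mm p.1 q.2) (mm p.2 q.1)) (mm p.2 q.2))

/-- The identity. -/
noncomputable def pOne : ℕ × ℕ := (one, 0)

/-- The planes of a word. -/
noncomputable def pWord (w : List ℕ) : ℕ × ℕ := w.foldr (fun x acc => pm (planes.getD x pOne) acc) pOne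

/-- Matrices over the field of two elements. -/
abbrev Mat2 : Type := Matrix (Fin 28 ⊕ Fin 28) (Fin 28 ⊕ Fin 28) (ZMod 2)

/-- The matrix of a pair: the field of four elements in its regular representation. -/
noncomputable def D (p : ℕ × ℕ) : Mat2 := Matrix.fromBlocks (dec p.1) (dec p.2) (dec p.2) (dec p.1 + dec p.2)

theorem dec_zero : dec 0 = 0 := by
  ext i j
  simp [dec, CfsgLib.Sporadic.RuMod.bz]

theorem D_one : D pOne = 1 := by
  rw [D, pOne, dec_one, dec_zero, add_zero, Matrix.fromBlocks_one]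

theorem blocks_mul {R : Type*} [Ring R] (h2 : ∀ X : R, X + X = 0) (a b c d : R) :
    a * c + b * d = a * c + b * d ∧ a * d + b * c + b * d = a * d + b * (c + d) ∧
      a * d + b * c + b * d = b * c + (a + b) * d ∧
      a * c + b * d + (a * d + b * c + b * d) = b * d + (a + b) * (c + d) := by
  refine ⟨rfl, by rw [mul_add]; abel, by rw [add_mul]; abel, ?_⟩
  calc a * c + b * d + (a * d + b * c + b * d) = a * c + a * d + b * c + (b * d + b * d) := by abel
    _ = a * c + a * d + b * c + (b * d + b * d) := rfl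
    _ = _ := by rw [mul_add, add_mul, add_mul]; abel

theorem fromBlocks_pair {n : Type*} [Fintype n] [DecidableEq n] (a b c d : Matrix n n (ZMod 2)) :
    Matrix.fromBlocks (a * c + b * d) (a * d + b * c + b * d) (a * d + b * c + b * d)
        (a * c + b * d + (a * d + b * c + b * d)) =
      Matrix.fromBlocks a b b (a + b) * Matrix.fromBlocks c d d (c + d) := by
  have h2 : ∀ X : Matrix n n (ZMod 2), X + X = 0 := fun X => by
    ext i j
    exact CharTwo.add_self_eq_zero _
  obtain ⟨-, e2, e3, e4⟩ := blocks_mul h2 a b c d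
  rw [Matrix.fromBlocks_multiply, ← e2, ← e3, ← e4]

theorem D_pm (p q : ℕ × ℕ) : D (pm p q) = D p * D q := by
  show Matrix.fromBlocks (dec (Nat.xor (mm p.1 q.1) (mm p.2 q.2)))
    (dec (Nat.xor (Nat.xor (mm p.1 q.2) (mm p.2 q.1)) (mm p.2 q.2)))
    (dec (Nat.xor (Nat.xor (mm p.1 q.2) (mm p.2 q.1)) (mm p.2 q.2)))
    (dec (Nat.xor (mm p.1 q.1) (mm p.2 q.2)) + dec (Nat.xor (Nat.xor (mm p.1 q.2) (mm p.2 q.1)) (mm p.2 q.2))) = _
  simp only [dec_xor, dec_mm]
  exact fromBlocks_pair (dec p.1) (dec p.2) (dec q.1) (dec q.2)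

/-- Equality of pairs. -/
noncomputable def peq (p q : ℕ × ℕ) : Bool := Nat.beq p.1 q.1 && Nat.beq p.2 q.2

theorem of_peq {p q : ℕ × ℕ} (h : peq p q = true) : p = q := by
  rw [peq, Bool.and_eq_true] at h
  exact Prod.ext (Nat.eq_of_beq_eq_true h.1) (Nat.eq_of_beq_eq_true h.2)

/-- The spider word. -/
def spider9 : List ℕ := (List.replicate 10 [3, 2, 1, 3, 4, 5, 3, 7, 8]).flatten

theorem planes_check :
    ((List.range 10).all fun x => peq (pWord [x, x]) pOne) = true ∧
    ((relWords Spor.Fi22.edges Spor.Fi22.extra gens).all fun w => w == spider9 || peq (pWord w) pOne) = true ∧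
    ((List.range 9).all fun x => peq (pWord (x :: spider9)) (pWord (spider9 ++ [x]))) = true ∧
    peq (pWord (spider9 ++ (spider9 ++ spider9))) pOne = true ∧
    (pWord spider9).1 < 2 ^ 784 ∧ (pWord spider9).2 < 2 ^ 784 ∧ Nat.beq (pWord spider9).2 0 = false ∧
    (pWord [0]).1 < 2 ^ 784 ∧ (pWord [0]).2 < 2 ^ 784 ∧ peq (pWord [0]) pOne = false := by
  decide +kernel

theorem D_injective {p q : ℕ × ℕ} (h1 : p.1 < 2 ^ 784) (h2 : p.2 < 2 ^ 784) (h3 : q.1 < 2 ^ 784)
    (h4 : q.2 < 2 ^ 784) (h : D p = D q) : p = q := by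
  have h' := Matrix.fromBlocks_inj.1 h
  exact Prod.ext (dec_inj h1 h3 h'.1) (dec_inj h2 h4 h'.2.1)

theorem D_sq (x : ℕ) : D (planes.getD x pOne) * D (planes.getD x pOne) = 1 := by
  rcases Nat.lt_or_ge x 10 with hx | hx
  · have h := of_peq (List.all_eq_true.1 planes_check.1 x (List.mem_range.2 hx))
    simp only [pWord, List.foldr_cons, List.foldr_nil] at h
    rw [← D_one]
    conv_rhs => rw [← h]
    rw [D_pm, D_pm, D_one, mul_one]
  · rw [List.getD_eq_default _ _ (by rw [show planes.length = 9 from rfl]; omega), D_one, one_mul]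

/-- The unit of a letter. -/
noncomputable def unitOf (x : ℕ) : Mat2ˣ :=
  ⟨D (planes.getD x pOne), D (planes.getD x pOne), D_sq x, D_sq x⟩

theorem unit_word (w : List ℕ) : ((w.map unitOf).prod : Mat2ˣ).val = D (pWord w) := by
  induction w with
  | nil => exact D_one.symm
  | cons x w ih =>
    rw [List.map_cons, List.prod_cons, Units.val_mul, ih, show pWord (x :: w) = pm (planes.getD x pOne) (pWord w) from rfl, D_pm]
    rfl

theorem unit_word_eq {v w : List ℕ} (h : peq (pWord v) (pWord w) = true) :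
    (v.map unitOf).prod = (w.map unitOf).prod :=
  Units.ext (by rw [unit_word, unit_word, of_peq h])

/-- The triple cover. -/
noncomputable def G3 : Subgroup Mat2ˣ := Subgroup.closure (Set.range unitOf)

instance : Finite G3 := inferInstance

/-- A letter in the triple cover. -/
noncomputable def g3 (x : ℕ) : G3 := ⟨unitOf x, Subgroup.subset_closure ⟨x, rfl⟩⟩

theorem g3_word (w : List ℕ) : ((w.map g3).prod : G3).val = (w.map unitOf).prod := by
  rw [Subgroup.val_list_prod, List.map_map]
  rfl

theorem g3_word_one {w : List ℕ} (h : peq (pWord w) pOne = true) : (w.map g3).prod = 1 := by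
  refine Subtype.ext ?_
  rw [g3_word]
  exact unit_word_eq (w := []) h

theorem closure_g3 : Subgroup.closure (Set.range g3) = ⊤ := by
  rw [eq_top_iff, ← Subgroup.map_le_map_iff_of_injective G3.subtype_injective, MonoidHom.map_closure,
    ← MonoidHom.range_eq_map, Subgroup.range_subtype, ← Set.range_comp]
  exact le_rfl

/-- The scalar. -/
noncomputable def zeta : G3 := (spider9.map g3).prod

theorem zeta_pow : zeta ^ 3 = 1 := by
  have h := g3_word_one planes_check.2.2.2.1
  rw [List.map_append, List.map_append, List.prod_append, List.prod_append] at h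
  rw [pow_succ, pow_two, mul_assoc]
  exact h

theorem zeta_ne : zeta ≠ 1 := fun e => by
  have h : D (pWord spider9) = D pOne := by
    rw [D_one, ← unit_word, ← g3_word, ← zeta, e]
    rfl
  obtain ⟨-, -, -, -, h1, h2, h3, -⟩ := planes_check
  rw [D_injective h1 h2 (CfsgLib.Sporadic.RuMod.one_lt) (Nat.two_pow_pos _) h] at h3
  simp [pOne] at h3

theorem zeta_central : zeta ∈ Subgroup.center G3 := by
  have hle : (⊤ : Subgroup G3) ≤ Subgroup.centralizer {zeta} := by
    rw [← closure_g3, Subgroup.closure_le]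
    rintro _ ⟨x, rfl⟩
    rw [SetLike.mem_coe, Subgroup.mem_centralizer_singleton_iff]
    rcases Nat.lt_or_ge x 9 with hx | hx
    · have h := unit_word_eq (List.all_eq_true.1 planes_check.2.2.1 x (List.mem_range.2 hx))
      refine Subtype.ext ?_
      rw [Subgroup.coe_mul, Subgroup.coe_mul, zeta, g3_word]
      simpa [g3] using h
    · rw [show g3 x = 1 from Subtype.ext (Units.ext (by
        show D (planes.getD x pOne) = 1
        rw [List.getD_eq_default _ _ (by rw [show planes.length = 9 from rfl]; omega), D_one]))]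
      simp
  exact Subgroup.mem_center_iff.2 fun g => Subgroup.mem_centralizer_singleton_iff.1 (hle (Subgroup.mem_top g))

/-- The scalars. -/
noncomputable abbrev Z3 : Subgroup G3 := Subgroup.zpowers zeta

theorem Z3_le_center : Z3 ≤ Subgroup.center G3 := Subgroup.zpowers_le.2 zeta_central

instance : Z3.Normal := Subgroup.Normal.mk fun n hn g => by
  rw [Subgroup.mem_center_iff.1 (Z3_le_center hn) g, mul_inv_cancel_right]
  exact hn

theorem g3_sq (x : ℕ) : g3 x * g3 x = 1 := Subtype.ext (Units.ext (D_sq x))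

/-- The map from Fi22 to the cover modulo scalars. -/
noncomputable def psi : Spor.Fi22 →* G3 ⧸ Z3 :=
  PresentedGroup.toGroup (f := fun y => QuotientGroup.mk (g3 (gens.idxOf y))) (by
    intro r hr
    rw [hom_eq_prod gens _ (fun x => (QuotientGroup.mk (g3 x) : G3 ⧸ Z3)) (fun y => FreeGroup.lift_apply_of)
      (fun x => by rw [← QuotientGroup.mk_mul, g3_sq, QuotientGroup.mk_one])]
    have hm : letters gens r ∈ relWords Spor.Fi22.edges Spor.Fi22.extra gens := by
      rw [relWords, List.mem_append]
      rcases hr with ⟨x, hx, y, hy, rfl⟩ | hr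
      · exact Or.inl (List.mem_flatMap.2 ⟨x, hx, List.mem_map.2 ⟨y, hy, rfl⟩⟩)
      · exact Or.inr (List.mem_map.2 ⟨r, hr, rfl⟩)
    have e : ((letters gens r).map fun x => (QuotientGroup.mk (g3 x) : G3 ⧸ Z3)).prod =
        QuotientGroup.mk' Z3 ((letters gens r).map g3).prod := by
      rw [map_list_prod, List.map_map]
      rfl
    rw [e, QuotientGroup.mk'_apply, QuotientGroup.eq_one_iff]
    have h := List.all_eq_true.1 planes_check.2.1 _ hm
    rw [Bool.or_eq_true] at h
    rcases h with h | h
    · rw [beq_iff_eq.1 h]; exact Subgroup.mem_zpowers zeta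
    · rw [g3_word_one h]; exact one_mem _)

theorem psi_a (x : ℕ) : psi (a x) = QuotientGroup.mk (g3 x) := by
  rcases Nat.lt_or_ge x gens.length with hx | hx
  · rw [show a x = PresentedGroup.of (gens[x]) by simp [a, gen, List.getElem?_eq_getElem hx]]
    rw [psi, PresentedGroup.toGroup.of]
    congr 2
    exact (show gens.Nodup by decide).idxOf_getElem x hx
  · rw [show a x = 1 by simp [a, gen, List.getElem?_eq_none hx], map_one,
      show g3 x = 1 from Subtype.ext (Units.ext (by
        show D (planes.getD x pOne) = 1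
        rw [List.getD_eq_default _ _ (show planes.length ≤ x from hx), D_one])), QuotientGroup.mk_one]

theorem psi_bij : Function.Bijective psi := by
  haveI := Fi22Group.isSimple
  refine ⟨?_, ?_⟩
  · rcases (inferInstance : psi.ker.Normal).eq_bot_or_eq_top with h | h
    · exact (MonoidHom.ker_eq_bot_iff _).1 h
    · exfalso
      have h0 : psi (a 0) = 1 := MonoidHom.mem_ker.1 (h ▸ Subgroup.mem_top _)
      rw [psi_a, QuotientGroup.eq_one_iff] at h0
      obtain ⟨k, hk⟩ := Subgroup.mem_zpowers_iff.1 h0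
      have h3 : g3 0 ^ 3 = 1 := by
        rw [← hk, ← zpow_natCast, ← zpow_mul, mul_comm, zpow_mul, zpow_natCast, zeta_pow, one_zpow]
      rw [pow_succ, pow_two, g3_sq, one_mul] at h3
      have e : D (pWord [0]) = D pOne := by
        rw [D_one, ← unit_word, ← g3_word, List.map_cons, List.map_nil, List.prod_singleton, h3]
        rfl
      obtain ⟨-, -, -, -, -, -, -, h1, h2, hne⟩ := planes_check
      rw [D_injective h1 h2 (CfsgLib.Sporadic.RuMod.one_lt) (Nat.two_pow_pos _) e] at hne
      simp [peq, pOne] at hne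
  · rw [← MonoidHom.range_eq_top, eq_top_iff,
      ← Subgroup.map_top_of_surjective _ (QuotientGroup.mk'_surjective Z3), ← closure_g3, MonoidHom.map_closure,
      Subgroup.closure_le]
    rintro _ ⟨_, ⟨x, rfl⟩, rfl⟩
    exact ⟨a x, psi_a x⟩

/-- The triple covering map. -/
noncomputable def sigma3 : G3 →* Spor.Fi22 :=
  (MulEquiv.ofBijective psi psi_bij).symm.toMonoidHom.comp (QuotientGroup.mk' Z3)

theorem sigma3_ker : sigma3.ker = Z3 := by
  ext g
  rw [sigma3, MonoidHom.mem_ker, MonoidHom.comp_apply, MulEquiv.toMonoidHom_eq_coe, MonoidHom.coe_coe, map_eq_one_iff _ (MulEquiv.injective _), QuotientGroup.mk'_apply, QuotientGroup.eq_one_iff]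

theorem card_Z3 : Nat.card Z3 = 3 := by
  have : Fact (Nat.Prime 3) := ⟨by norm_num⟩
  rw [Nat.card_zpowers, orderOf_eq_prime zeta_pow zeta_ne]

theorem commutator_fi22 : commutator Spor.Fi22 = ⊤ := by
  haveI := Fi22Group.isSimple
  refine (Subgroup.Normal.eq_bot_or_eq_top (H := commutator Spor.Fi22) inferInstance).resolve_left fun h => ?_
  letI : CommGroup Spor.Fi22 :=
    { (inferInstance : Group Spor.Fi22) with
      mul_comm := fun x y => commutatorElement_eq_one_iff_mul_comm.1 (Subgroup.mem_bot.1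
        (h ▸ Subgroup.commutator_mem_commutator (Subgroup.mem_top x) (Subgroup.mem_top y))) }
  have hp := IsSimpleGroup.prime_card (α := Spor.Fi22)
  rw [Fi22Group.card_and_faithful.1] at hp
  norm_num at hp

theorem stem3 : Cfsg.IsStemExtension sigma3 := by
  have hs : Function.Surjective sigma3 := by
    rw [sigma3]
    exact (MulEquiv.ofBijective psi psi_bij).symm.surjective.comp (QuotientGroup.mk'_surjective Z3)
  refine ⟨hs, sigma3_ker ▸ Z3_le_center, ?_⟩
  rw [sigma3_ker]
  have hmap : (commutator G3).map sigma3 = ⊤ := by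
    rw [commutator_def, Subgroup.map_commutator, Subgroup.map_top_of_surjective _ hs, ← commutator_def,
      commutator_fi22]
  have htop : (⊤ : Subgroup G3) ≤ commutator G3 := by
    rw [← closure_g3, Subgroup.closure_le]
    rintro _ ⟨x, rfl⟩
    have hx : sigma3 (g3 x) ∈ (commutator G3).map sigma3 := hmap ▸ Subgroup.mem_top _
    obtain ⟨c, hc, e⟩ := hx
    have hk : c⁻¹ * g3 x ∈ Z3 := by
      rw [← sigma3_ker, MonoidHom.mem_ker, map_mul, map_inv, e, inv_mul_cancel]
    obtain ⟨k, hk⟩ := Subgroup.mem_zpowers_iff.1 hk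
    let q : G3 →* Abelianization G3 := Abelianization.of
    have hq : q (g3 x) = q zeta ^ k := by
      rw [← map_zpow, hk, map_mul, show q c⁻¹ = 1 from (QuotientGroup.eq_one_iff _).2 (inv_mem hc), one_mul]
    have h2 : q (g3 x) * q (g3 x) = 1 := by rw [← map_mul, g3_sq, map_one]
    have h3 : q (g3 x) ^ 3 = 1 := by
      rw [hq, ← zpow_natCast, ← zpow_mul, mul_comm, zpow_mul, zpow_natCast, ← map_pow, zeta_pow, map_one, one_zpow]
    rw [pow_succ, pow_two, h2, one_mul] at h3
    exact (QuotientGroup.eq_one_iff _).1 h3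
  exact fun z _ => htop (Subgroup.mem_top z)

end CfsgLib.Recog.FiTwoMult
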