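import Cfsg.Agent.Lib.Recog.FiTwoMult.Bound
import Cfsg.Agent.Lib.Recog.FiTwoMult.Cover2
import Cfsg.Agent.Lib.Recog.FiTwoMult.Cover3
import Cfsg.Agent.Lib.Schur.StemProduct
import Mathlib.GroupTheory.SpecificGroups.Cyclic

/-!
The Schur multiplier of Fi22 has order 6 (owner: helper18).
-/

set_option autoImplicit false

namespace CfsgLib.Recog.FiTwoMult

open Cfsg

attribute [local instance] CfsgLib.Recog.FiThree.finite_fi23'

theorem multiplier_fi22 : Cfsg.HasCyclicSchurMultiplier Spor.Fi22 6 := by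
  refine ⟨?_, fun Γ _ _ σ hσ => ?_⟩
  · have hcop : Nat.Coprime (Nat.card sigma2.ker) (Nat.card sigma3.ker) := by
      rw [sigma2_ker, sigma3_ker, card_Z2, card_Z3]; decide
    refine ⟨CfsgLib.Schur.fibreProduct sigma2 sigma3, inferInstance, inferInstance,
      CfsgLib.Schur.fibreMap sigma2 sigma3, CfsgLib.Schur.isStemExtension_fibreProduct _ _ stem2 stem3 hcop, ?_⟩
    have e := CfsgLib.Schur.fibreKerEquiv sigma2 sigma3
    haveI : IsCyclic sigma2.ker := by rw [sigma2_ker]; infer_instance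
    haveI : IsCyclic sigma3.ker := by rw [sigma3_ker]; infer_instance
    haveI : IsCyclic (sigma2.ker × sigma3.ker) := Group.isCyclic_prod_iff.2 ⟨inferInstance, inferInstance, hcop⟩
    have hcard : Nat.card (sigma2.ker × sigma3.ker) = 6 := by
      rw [Nat.card_prod, sigma2_ker, sigma3_ker, card_Z2, card_Z3]
    exact ⟨e.trans (mulEquivOfCyclicCardEq (hcard.trans (by simp)))⟩
  · obtain ⟨t, ht, hker⟩ := ker_cyclic σ hσ
    have htk : t ∈ σ.ker := hker ▸ Subgroup.mem_zpowers t
    haveI : IsCyclic σ.ker := by rw [hker]; infer_instance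
    have hdvd : Nat.card σ.ker ∣ 6 := by
      rw [hker, Nat.card_zpowers]
      exact orderOf_dvd_of_pow_eq_one ht
    let m := Nat.card σ.ker
    let f : ZMod 6 →+* ZMod m := ZMod.castHom hdvd (ZMod m)
    let e : Multiplicative (ZMod m) ≃* σ.ker := zmodCyclicMulEquiv inferInstance
    refine ⟨e.toMonoidHom.comp (AddMonoidHom.toMultiplicative f.toAddMonoidHom), ?_⟩
    exact e.surjective.comp (fun x => ZMod.castHom_surjective hdvd x)

end CfsgLib.Recog.FiTwoMult
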