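import Cfsg.Agent.Lib.Recog.FiTwoMult.Data
import Cfsg.Agent.Lib.Recog.FiTwoMult.Moves
import Cfsg.Agent.Lib.Recog.FiThree.Mult.Words
import Cfsg.Agent.Lib.Recog.SporBound.Fi22U6.Class

/-!
Kernel checks for the bound on central extensions of Fi22 (owner: helper18).
-/

set_option autoImplicit false
set_option maxRecDepth 20000
set_option Elab.async false

namespace CfsgLib.Recog.FiTwoMult

open Cfsg CfsgLib.ThreeTrans.CosetIndex
open CfsgLib.Recog.FiThree.Mult (orth orthComm orthWord palOf coxSeven spider conC conD certC certE)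
open CfsgLib.Recog.SporBound.Fi22Group (a)
open CfsgLib.Recog.SporBound.Fi22U6 (prod_eq_one_of_trace)
open Cfsg.Agent.S1687 (gens)

/-- The second relator of E₇ type. -/
def sevenTwo : List ℕ := (List.replicate 9 [1, 2, 3, 4, 5, 6, 7]).flatten

/-- The odd relation of the E₇ diagram commuting with the first letter. -/
def sevenA : List ℕ := (List.replicate 9 [2, 3, 4, 5, 6, 7, 8]).flatten

/-- A word conjugating the first letter to a letter. -/
def chain22 : ℕ → List ℕ
  | 1 => [0, 1]
  | 2 => [1, 2, 0, 1]
  | 3 => [2, 3, 1, 2, 0, 1]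
  | 4 => [3, 4, 2, 3, 1, 2, 0, 1]
  | 7 => [3, 7, 2, 3, 1, 2, 0, 1]
  | 5 => [4, 5, 3, 4, 2, 3, 1, 2, 0, 1]
  | 6 => [5, 6, 4, 5, 3, 4, 2, 3, 1, 2, 0, 1]
  | 8 => [7, 8, 3, 7, 2, 3, 1, 2, 0, 1]
  | _ => []

/-- The conjugating word and the letter of a reflection of the diagram of type D₆. -/
def pZ : List ℕ × ℕ := ([3, 4, 2, 3], 7)

/-- The conjugating word and the letter of the other reflection of the diagram of type D₆. -/
def pY : List ℕ × ℕ := ([1, 0, 2, 1, 3, 4, 2, 3], 7)

/-- The last generator of the point stabiliser. -/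
def wK : List ℕ := (List.replicate 5 [0, 1, 2, 3, 4, 7]).flatten

/-- A word acts trivially. -/
noncomputable def trOK (w : List ℕ) : Bool :=
  (List.range 3510).all fun c => Nat.beq (FiHat3510.data.trace c w.reverse) c

theorem of_trOK {w : List ℕ} (h : trOK w = true) : (w.map a).prod = 1 :=
  prod_eq_one_of_trace fun c hc => Nat.eq_of_beq_eq_true (List.all_eq_true.1 h c (List.mem_range.2 hc))

theorem tr_sevenA : trOK sevenA = true := by decide +kernel

theorem tr_wK : trOK (wK ++ ([0, 2, 4, 7] ++ (palOf pY ++ palOf pZ))) = true := by decide +kernel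

theorem tr_braid : trOK (palOf pY ++ [5] ++ (palOf pY ++ [5]) ++ (palOf pY ++ [5])) = true := by decide +kernel

theorem tr_chain : ((List.range 9).all fun x => trOK (chain22 x ++ [0] ++ (chain22 x).reverse ++ [x])) = true := by
  decide +kernel

theorem stab_check : ((([0, 2, 3, 4, 5, 6, 7, 8].map fun x => [x]) ++ [palOf pY, palOf pZ, wK]).all
    fun w => Nat.beq (FiHat3510.data.trace 0 w.reverse) 0) = true := by decide +kernel

theorem seven_red : (reduceBy (coxSeven ++ orthWord) certE == some []) = true := by decide +kernel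

theorem cube_red : (reduceBy (spider ++ (conC ++ spider ++ conC.reverse) ++ (conD ++ spider ++ conD.reverse)) certC
    == some []) = true := by decide +kernel

theorem square_red : (reduceBy (sevenTwo ++ sevenTwo) certZ == some []) = true := by decide +kernel

theorem orth_len : orth.length = 7 ∧ orth.all (fun e => Nat.blt e.2 9) = true := by decide +kernel

theorem orth_comm : ((List.range 7).all fun i => (List.range 7).all fun j => !Nat.blt i j || orthComm.any fun e =>
    Nat.beq e.1 i && Nat.beq e.2.1 j && (reduceBy (palOf (orth.getD i ([], 0)) ++ palOf (orth.getD j ([], 0)) ++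
      palOf (orth.getD i ([], 0)) ++ palOf (orth.getD j ([], 0))) e.2.2 == some [])) = true := by decide +kernel

theorem extra_words : Cfsg.Spor.Fi22.extra.map (letters gens) = [spider, coxSeven, sevenTwo] := by decide +kernel

theorem label_check : ∀ x y : Spor.Fi22.Gen, Spor.coxLabel Spor.Fi22.edges x y =
    if x = y then 1 else if adj (gens.idxOf x) (gens.idxOf y) then 3 else 2 := by
  intro x y
  cases x <;> cases y <;> decide

theorem pair_relators : ((List.range 9).all fun x => (List.range 9).all fun y => Nat.beq x y ||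
    (relWords Spor.Fi22.edges Spor.Fi22.extra gens).contains
      (if adj x y then [x, y, x, y, x, y] else [x, y, x, y])) = true := by decide +kernel

end CfsgLib.Recog.FiTwoMult
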